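import Cfsg.Agent.H72.CVU.HitTwo

/-!
# `PSU_5(q)`, `q` odd, `r = 2` and the row (S3442, row X5)
-/

set_option autoImplicit false
set_option linter.unusedSectionVars false

namespace Cfsg.Agent.H72.CVU

open Matrix Cfsg Cfsg.Agent.LieClassical.HermBasic Cfsg.Agent.LieClassical.HermSiegel Cfsg.Agent.LieClassical.SUBasic
  Cfsg.Agent.H373.CV

universe u v

variable {F : Type v} [Field F] [Fintype F] {q : ℕ}

/-- a Siegel element has order dividing `p` -/
theorem siegel_pow (hF : Fintype.card F = q ^ 2) (p : ℕ) [Fact p.Prime] [CharP F p] (hp3 : 3 ≤ p) {n : ℕ} (hn : 0 < n)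
    {u w : Fin n → F} {μ : F} (h : IsSiegel q u w μ) : siegel hF u w μ h ^ p = 1 := by
  have h3 : (siegelMat q u w μ - 1) ^ 3 = 0 := by
    rw [pow_three']
    apply Matrix.ext_of_mulVec_single
    intro i
    set e : Fin n → F := Pi.single i 1
    have key : ∀ v : Fin n → F, (siegelMat q u w μ - 1) *ᵥ v =
        hermForm n F q v u • w + (μ * hermForm n F q v u - hermForm n F q v w) • u := by
      intro v
      rw [Matrix.sub_mulVec, siegelMat_mulVec, Matrix.one_mulVec]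
      abel
    rw [Matrix.zero_mulVec, ← Matrix.mulVec_mulVec, ← Matrix.mulVec_mulVec, key e, key, key]
    simp only [herm_add_left, herm_smul_left, h.iso, h.orth, h.orth' hF, mul_zero, add_zero,
      zero_sub, zero_smul, zero_add, sub_self]
  have : Nonempty (Fin n) := ⟨⟨0, hn⟩⟩
  have h4 : (siegelMat q u w μ - 1) ^ p = 0 := by
    obtain ⟨k, hk⟩ := Nat.exists_eq_add_of_le hp3
    rw [hk, pow_add, h3, zero_mul]
  have h5 : siegelMat q u w μ ^ p = 1 := by
    have h6 := sub_pow_char_of_commute (R := Matrix (Fin n) (Fin n) F) (p := p) (Commute.one_right (siegelMat q u w μ))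
    rw [one_pow, h4] at h6
    exact (sub_eq_zero.1 h6.symm)
  apply mat_injective
  have h6 : ∀ k, mat (siegel hF u w μ h ^ k) = mat (siegel hF u w μ h) ^ k := by
    intro k
    induction k with
    | zero => rw [pow_zero, pow_zero, mat_one]
    | succ k ih => rw [pow_succ, pow_succ, mat_mul, ih]
  rw [h6, mat_one]
  exact h5

section

variable (hF : Fintype.card F = q ^ 2) {ε : F} (hε : ε * ε ^ q = -1)

include hF hε

theorem isW {m : F} (hm : m + m ^ q = -1) : IsSiegel q (e2 ε) (w0 : Fin 5 → F) m :=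
  ⟨h22 hF hε, hw2 hF, by rw [hww, hm]; ring⟩

/-- the `p`-element -/
def xx {m : F} (hm : m + m ^ q = -1) : SU 5 F q := siegel hF (e2 ε) w0 m (isW hF hε hm)

variable {m : F} (hm : m + m ^ q = -1)

theorem xx_pow (p : ℕ) [Fact p.Prime] [CharP F p] (hp3 : 3 ≤ p) : xx hF hε hm ^ p = 1 :=
  siegel_pow hF p hp3 (by norm_num) _

theorem xx_ne : (QuotientGroup.mk (xx hF hε hm) : PSU 5 F q) ≠ 1 := by
  intro h
  have h1 : xx hF hε hm ∈ Subgroup.center (SU 5 F q) := (QuotientGroup.eq_one_iff _).1 h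
  have h2 : xx hF hε hm = 1 := by
    apply eq_one_of_fix hF h1 (e2_ne ε)
    unfold xx
    exact act_siegel_self _ _
  have h3 := congrArg (fun g => act g (w0 : Fin 5 → F)) h2
  simp only [act_one] at h3
  unfold xx at h3
  rw [act_siegel, hww, hw2 hF] at h3
  have h4 := congrFun h3 2
  simp [w0, e2] at h4

theorem orderOf_xx (p : ℕ) [Fact p.Prime] [CharP F p] (hp3 : 3 ≤ p) :
    orderOf (QuotientGroup.mk (xx hF hε hm) : PSU 5 F q) = p := by
  apply orderOf_eq_prime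
  · rw [← QuotientGroup.mk_pow, xx_pow hF hε hm p hp3]
    rfl
  · exact xx_ne hF hε hm

theorem xx_fl (l : F) : xx hF hε hm * fl hF hε l = siegel hF (e2 ε) (w0 + l • e1 ε) m
    ((isW hF hε hm).mul hF (isF hF hε l) |> fun h => by
      rw [herm_smul_left, h1w hF, mul_zero, add_zero, sub_zero] at h; exact h) := by
  unfold xx fl
  rw [siegel_mul]
  apply siegel_congr
  · rfl
  · rfl
  · rw [herm_smul_left, h1w hF, mul_zero, add_zero, sub_zero]

theorem fl_xx (l : F) : fl hF hε l * xx hF hε hm = xx hF hε hm * fl hF hε l := by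
  rw [xx_fl]
  unfold xx fl
  rw [siegel_mul]
  apply siegel_congr
  · rfl
  · rw [add_comm]
  · rw [herm_smul_right, hw1 hF, mul_zero, zero_add, sub_zero]

/-- conjugation -/
theorem exists_conj (l : F) : ∃ g : SU 5 F q, g * xx hF hε hm * g⁻¹ = xx hF hε hm * fl hF hε l ∧
    ∀ k : F, g * fl hF hε k * g⁻¹ = fl hF hε k := by
  obtain ⟨n, hn⟩ : ∃ n : F, n = (-l) ^ q := ⟨_, rfl⟩
  have hnq : n ^ q = -l := by rw [hn, pow_q_pow_q hF]
  obtain ⟨m', hm'⟩ := exists_trace_eq hF (c := -(n * n ^ q)) (by rw [neg_pow_q hF, norm_pow_q hF])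
  have hS : IsSiegel q (e1 ε) (n • (w0 : Fin 5 → F)) m' := by
    refine ⟨h11 hF hε, by rw [herm_smul_left, hw1 hF, mul_zero], ?_⟩
    rw [hm', herm_smul_left, herm_smul_right, hww]
    ring
  have hg2 : act (siegel hF (e1 ε) (n • w0) m' hS) (e2 ε) = e2 ε := by
    apply act_siegel_of_orth
    · exact h21 hF
    · rw [herm_smul_right, h2w hF, mul_zero]
  have hg1 : act (siegel hF (e1 ε) (n • w0) m' hS) (e1 ε) = e1 ε := act_siegel_self _ _
  have hgw : act (siegel hF (e1 ε) (n • w0) m' hS) w0 = w0 + l • e1 ε := by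
    rw [act_siegel, hw1 hF, herm_smul_right, hww, hnq]
    simp
  refine ⟨siegel hF (e1 ε) (n • w0) m' hS, ?_, fun k => ?_⟩
  · rw [xx_fl]
    conv_lhs => unfold xx
    rw [conj_siegel]
    exact siegel_congr hF _ _ hg2 hgw rfl
  · unfold fl
    rw [conj_siegel]
    exact siegel_congr hF _ _ hg2 (by rw [act_smul, hg1]) rfl

/-- `y` commutes with the `p`-element -/
theorem y_xx {y : SU 5 F q} {z : F} (h2 : act y (e2 ε) = z • e2 ε) (hw : act y w0 = z • w0)
    (hz : z ^ (q + 1) = 1) : y * xx hF hε hm * y⁻¹ = xx hF hε hm := by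
  have hzq : z ^ q * z = 1 := by rw [← pow_succ]; exact hz
  unfold xx
  rw [conj_siegel]
  have e : IsSiegel q (e2 ε) (z • (w0 : Fin 5 → F)) m := by
    refine ⟨h22 hF hε, by rw [herm_smul_left, hw2 hF, mul_zero], ?_⟩
    rw [herm_smul_left, herm_smul_right, hww, hm]
    linear_combination hzq
  rw [siegel_congr hF _ e.smul h2 hw rfl, siegel_smul hF e]
  apply siegel_congr
  · rfl
  · rw [smul_smul, hzq, one_smul]
  · rw [mul_comm z, hzq, one_mul]

end

/-- `b` of order `2 ^ a`, the element `b * z⁻¹` -/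
theorem orderOf_bz {b : F} {a e : ℕ} (hb : orderOf b = 2 ^ (a + 1)) (he : 2 ∣ e) :
    orderOf (b * (b ^ e)⁻¹) = 2 ^ (a + 1) := by
  have hpow : b ^ 2 ^ (a + 1) = 1 := by rw [← hb, pow_orderOf_eq_one]
  have h0 : b ≠ 0 := by
    rintro rfl
    rw [zero_pow (by positivity)] at hpow
    exact zero_ne_one hpow
  have h2 : Fact (Nat.Prime 2) := ⟨Nat.prime_two⟩
  refine orderOf_eq_prime_pow (p := 2) (n := a) ?_ ?_
  · intro h
    obtain ⟨k, rfl⟩ := he
    rw [mul_pow, inv_pow, ← pow_mul] at h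
    have h3 : b ^ (2 * k * 2 ^ a) = 1 := by
      rw [show 2 * k * 2 ^ a = 2 ^ (a + 1) * k by ring, pow_mul, hpow, one_pow]
    rw [h3, inv_one, mul_one] at h
    have h4 := orderOf_dvd_of_pow_eq_one h
    rw [hb] at h4
    have h5 := Nat.le_of_dvd (by positivity) h4
    have h6 : 2 ^ a < 2 ^ (a + 1) := Nat.pow_lt_pow_right (by norm_num) (by omega)
    omega
  · rw [mul_pow, inv_pow, ← pow_mul, hpow, mul_comm e, pow_mul, hpow, one_pow, inv_one, mul_one]

/-- **`r = 2`.** -/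
theorem hit_two (hF : Fintype.card F = q ^ 2) (hq : Odd q) : Hit.{u, v} 2 (PSU 5 F q) := by
  have hsimp := simple5 hF
  have hfin : Finite (SU 5 F q) := Subtype.finite
  have hfin' : Finite (PSU 5 F q) := inferInstance
  obtain ⟨p, hp⟩ := CharP.exists F
  have hpp : Fact p.Prime := ⟨CharP.char_is_prime F p⟩
  have hpq : p ∣ q := (CharP.cast_eq_zero_iff F p q).1 (q_zero hF)
  have hp2 : p ≠ 2 := by
    rintro rfl
    obtain ⟨k, hk⟩ := hq
    omega
  have hp3 : 3 ≤ p := by have := hpp.1.two_le; omega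
  have h2q : 2 ∣ q + 1 := by
    obtain ⟨k, hk⟩ := hq
    exact ⟨k + 1, by omega⟩
  have h2F : (2 : F) ≠ 0 := by
    have := r_ne_zero hF h2q
    exact_mod_cast this
  obtain ⟨ε, hε⟩ := exists_eps hF
  have he0 : ε ≠ 0 := by
    rintro rfl
    rw [zero_mul] at hε
    exact one_ne_zero (neg_eq_zero.1 hε.symm)
  have hfac : q ^ 2 - 1 = (q + 1) * (q - 1) := by
    have := Nat.sq_sub_sq q 1
    rwa [one_pow] at this
  have hq2 := two_le hF
  have hq1 : 2 ∣ q - 1 := by
    obtain ⟨k, hk⟩ := hq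
    exact ⟨k, by omega⟩
  have hN0 : q ^ 2 - 1 ≠ 0 := by
    rw [hfac]
    exact Nat.mul_ne_zero (by omega) (by omega)
  obtain ⟨A, k', hk', hA⟩ := Nat.exists_eq_pow_mul_and_not_dvd hN0 2 (by norm_num)
  obtain ⟨a, rfl⟩ : ∃ a, A = a + 1 := by
    rcases Nat.eq_zero_or_pos A with h | h
    · exfalso
      rw [h, pow_zero, one_mul] at hA
      apply hk'
      rw [← hA, hfac]
      exact h2q.mul_right _
    · exact ⟨A - 1, by omega⟩
  have hnot : ¬ 2 ^ (a + 1 + 1) ∣ q ^ 2 - 1 := by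
    rw [hA, pow_succ 2 (a + 1)]
    intro h
    exact hk' (Nat.dvd_of_mul_dvd_mul_left (by positivity) h)
  obtain ⟨b, hb⟩ := exists_orderOf hF (k := 2 ^ (a + 1)) (by rw [hA]; exact dvd_mul_right _ _)
  have hpow : b ^ 2 ^ (a + 1) = 1 := by rw [← hb, pow_orderOf_eq_one]
  have hb0 : b ≠ 0 := by
    rintro rfl
    rw [zero_pow (by positivity)] at hpow
    exact zero_ne_one hpow
  -- a cube root
  obtain ⟨k, hk⟩ : ∃ k, b ^ (3 * k) = b := by
    have h3 : Nat.Coprime 3 (2 ^ (a + 1)) := Nat.Coprime.pow_right _ (by norm_num)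
    obtain ⟨k, hk⟩ := Nat.exists_mul_mod_eq_one_of_coprime h3 (Nat.one_lt_pow (by omega) (by norm_num))
    refine ⟨k, ?_⟩
    conv_lhs => rw [← Nat.div_add_mod (3 * k) (2 ^ (a + 1)), hk.2, pow_add, pow_mul, hpow, one_pow, one_mul, pow_one]
  obtain ⟨e, he⟩ : ∃ e, e = (q - 1) * k := ⟨_, rfl⟩
  have he2 : 2 ∣ e := by rw [he]; exact hq1.mul_right _
  have hz3 : (b ^ e) ^ 3 = b ^ (q - 1) := by
    rw [he, ← pow_mul, show (q - 1) * k * 3 = 3 * k * (q - 1) by ring, pow_mul, hk]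
  have hz : (b ^ e) ^ (q + 1) = 1 := by
    rw [he, ← pow_mul, show (q - 1) * k * (q + 1) = (q + 1) * (q - 1) * k by ring, ← hfac, hA, pow_mul, pow_mul, hpow,
      one_pow, one_pow]
  have hbz : b * (b ^ q)⁻¹ * (b ^ e) ^ 3 = 1 := by
    rw [hz3]
    have h3 : b * b ^ (q - 1) = b ^ q := by
      rw [← pow_succ']
      congr 1
      omega
    rw [mul_right_comm, h3, mul_inv_cancel₀ (pow_ne_zero _ hb0)]
  obtain ⟨y, hy⟩ := exists_y hF hε h2F hb0 hbz hz
  have hy1 : act y (e1 ε) = b • e1 ε := by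
    rw [hy]
    funext i
    fin_cases i
    · show (b + (b ^ q)⁻¹) / 2 * 1 + (b - (b ^ q)⁻¹) / 2 * ε⁻¹ * ε = b * 1
      field_simp
      ring
    · show ε * ((b - (b ^ q)⁻¹) / 2) * 1 + (b + (b ^ q)⁻¹) / 2 * ε = b * ε
      field_simp
      ring
    · show b ^ e * 0 = b * 0
      ring
    · show b ^ e * 0 = b * 0
      ring
    · show b ^ e * 0 = b * 0
      ring
  have hy2 : act y (e2 ε) = b ^ e • e2 ε := by
    rw [hy]
    funext i
    fin_cases i
    · show (b + (b ^ q)⁻¹) / 2 * 0 + (b - (b ^ q)⁻¹) / 2 * ε⁻¹ * 0 = b ^ e * 0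
      ring
    · show ε * ((b - (b ^ q)⁻¹) / 2) * 0 + (b + (b ^ q)⁻¹) / 2 * 0 = b ^ e * 0
      ring
    · rfl
    · rfl
    · rfl
  have hyw : act y (w0 : Fin 5 → F) = b ^ e • w0 := by
    rw [hy]
    funext i
    fin_cases i
    · show (b + (b ^ q)⁻¹) / 2 * 0 + (b - (b ^ q)⁻¹) / 2 * ε⁻¹ * 0 = b ^ e * 0
      ring
    · show ε * ((b - (b ^ q)⁻¹) / 2) * 0 + (b + (b ^ q)⁻¹) / 2 * 0 = b ^ e * 0
      ring
    · rfl
    · rfl
    · rfl
  have hbo := orderOf_bz hb he2
  have hyi : ∀ j (v : Fin 5 → F), act (y ^ j) v = Yv ε (b ^ j) (((b ^ q)⁻¹) ^ j) ((b ^ e) ^ j) v := by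
    intro j
    induction j with
    | zero => intro v; rw [pow_zero, pow_zero, pow_zero, pow_zero, act_one, Yv_one h2F]
    | succ j ih => intro v; rw [pow_succ, act_mul, ih, hy, Yv_mul h2F he0, pow_succ, pow_succ, pow_succ]
  have hord : ∀ i, (b * (b ^ e)⁻¹) ^ i = 1 → y ^ i = 1 := by
    intro i hi
    have h3 := orderOf_dvd_of_pow_eq_one hi
    rw [hbo] at h3
    obtain ⟨j, rfl⟩ := h3
    have h4 : b ^ (2 ^ (a + 1) * j) = 1 := by rw [pow_mul, hpow, one_pow]
    apply ext_act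
    intro v
    rw [hyi, h4, inv_pow, ← pow_mul, mul_comm q, pow_mul, h4, one_pow, inv_one, ← pow_mul, mul_comm e, pow_mul, h4,
      one_pow, Yv_one h2F, act_one]
  obtain ⟨m, hm⟩ := exists_trace_eq hF (c := (-1 : F)) (by rw [neg_pow_q hF, one_pow])
  have hxo := orderOf_xx hF hε hm p hp3
  refine H357.CV.hit_of_cases Nat.prime_two (hT hF Nat.prime_two h2q) ?_
  intro W _ _ _ hW φ hinj
  have hco : orderOf (QuotientGroup.mk y : PSU 5 F q) = 2 ^ (a + 1) := by
    rw [orderOf_mk hF hy1 hy2 hz hord, hbo]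
  have hcomm : ∀ g h : SU 5 F q, g * h * g⁻¹ = h → (QuotientGroup.mk g : PSU 5 F q) * QuotientGroup.mk h =
      QuotientGroup.mk h * QuotientGroup.mk g := by
    intro g h hgh
    rw [mul_inv_eq_iff_eq_mul] at hgh
    exact congrArg (fun g : SU 5 F q => (QuotientGroup.mk g : PSU 5 F q)) hgh
  obtain ⟨ho, w, hw⟩ := exists_norm_comm φ Nat.prime_two hpp.1 hp2.symm hW hxo (Ph hF hε).range
    (by
      rw [card_range hF hε]
      intro h
      exact not_dvd_q Nat.prime_two h2q (Nat.prime_two.dvd_of_dvd_pow h))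
    (by
      rintro _ ⟨l, rfl⟩
      exact (congrArg (fun g : SU 5 F q => (QuotientGroup.mk g : PSU 5 F q)) (fl_xx hF hε hm l.toAdd)).symm)
    (by
      rintro _ ⟨l, rfl⟩
      rw [← map_pow]
      have : l ^ p = 1 := by
        apply Multiplicative.toAdd.injective
        rw [toAdd_pow, toAdd_one, nsmul_eq_mul, CharP.cast_eq_zero, zero_mul]
      rw [this, map_one])
    (by
      rintro _ ⟨l, rfl⟩
      obtain ⟨g, hg, hgk⟩ := exists_conj hF hε hm l.toAdd
      refine ⟨QuotientGroup.mk g, congrArg (fun g : SU 5 F q => (QuotientGroup.mk g : PSU 5 F q)) hg, ?_⟩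
      rintro _ ⟨k, rfl⟩
      exact hcomm _ _ (hgk k.toAdd))
    (hcomm _ _ (y_xx hF hε hm hy2 hyw hz)).symm
    (conj_mem hF hε hy1 hy2 hz) (fix_free hF hε hy1 hy2 hz hord)
    (by
      rw [hxo, hco]
      exact Nat.Coprime.pow_right _ ((Nat.coprime_primes hpp.1 Nat.prime_two).2 hp2))
    ⟨Ph hF hε (Multiplicative.ofAdd 1), ⟨_, rfl⟩, fun h => by
      have h3 := hinj _ h
      have h4 : Ph hF hε (Multiplicative.ofAdd 1) = Ph hF hε 1 := by rw [h3, map_one]
      have h5 := Ph_injective hF hε h4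
      exact one_ne_zero (Multiplicative.ofAdd.injective (h5.trans ofAdd_zero.symm))⟩
  refine ⟨_, w, hw, fun z => ?_⟩
  rw [ho, hco]
  exact psu_two_bound hF hq p hnot z

/-- **Row X5, `r ≠ 3`.** -/
theorem x5 (F : Type v) [Field F] [Fintype F] (q : ℕ) (hF : Fintype.card F = q ^ 2) (hq : Odd q) (r : ℕ) (hr : r.Prime)
    (hr3 : r ≠ 3) (hrq : r ∣ q + 1) : Hit.{u, v} r (PSU 5 F q) := by
  by_cases h2 : r = 2
  · subst h2
    exact hit_two hF hq
  · have h5 : 5 ≤ r := by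
      have := hr.two_le
      have h4 : r ≠ 4 := by rintro rfl; exact absurd hr (by norm_num)
      omega
    exact hit_five hF hr h5 hrq

end Cfsg.Agent.H72.CVU
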