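import Cfsg.Agent.H357.CV.Tool

/-!
# Frobenius groups in the centraliser of a `p`-element (S3442, cross characteristic, helper357's argument)

`exists_norm_comm` : `u` of order `p`, `U` of exponent `p` commuting with `u`, every `u * a` (`a ∈ U`) conjugate to `u` by
an element centralising `U`, `c` commuting with `u` and acting freely on `U`, `U` not trivial on `W`: the norm of `u * c`
is not zero.
-/

set_option autoImplicit false

namespace Cfsg.Agent.H72.CVU

open Finset Cfsg.Agent.H373.CV Cfsg.Agent.H357.CV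

universe u v

variable {L : Type v} [Group L] {W : Type u} [AddCommGroup W] (φ : L →* AddMonoid.End W)

/-- fixed points -/
def fixW (x : L) : AddSubgroup W where
  carrier := {w | φ x w = w}
  zero_mem' := map_zero (φ x)
  add_mem' {a b} ha hb := by
    show φ x (a + b) = a + b
    rw [map_add, show φ x a = a from ha, show φ x b = b from hb]
  neg_mem' {a} ha := by
    show φ x (-a) = -a
    rw [map_neg, show φ x a = a from ha]

theorem mem_fixW {x : L} {w : W} : w ∈ fixW φ x ↔ φ x w = w := Iff.rfl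

theorem comm_of_cent {x : L} (g : Subgroup.centralizer ({x} : Set L)) : x * (g : L) = g * x :=
  Subgroup.mem_centralizer_singleton_iff.1 g.2 |>.symm

/-- the action of the centraliser on the fixed points -/
def resW (x : L) : Subgroup.centralizer ({x} : Set L) →* AddMonoid.End (fixW φ x) where
  toFun g :=
    { toFun := fun w => ⟨φ g w, by
        rw [mem_fixW, ← act_mul, comm_of_cent, act_mul, show φ x w = w from w.2]⟩
      map_zero' := Subtype.ext (map_zero (φ g))
      map_add' := fun a b => Subtype.ext (map_add (φ g) a.1 b.1) }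
  map_one' := by
    apply AddMonoidHom.ext
    intro w
    exact Subtype.ext (act_one φ w.1)
  map_mul' a b := by
    apply AddMonoidHom.ext
    intro w
    exact Subtype.ext (act_mul φ a.1 b.1 w.1)

theorem resW_apply (x : L) (g : Subgroup.centralizer ({x} : Set L)) (w : fixW φ x) : (resW φ x g w : W) = φ g w := rfl

/-- reindexing a sum over powers -/
theorem sum_pow_mul {p : ℕ} (hp : p.Prime) {f : L} (hf : f ^ p = 1) {i : ℕ} (hi : ¬ p ∣ i) (w : W) :
    ∑ j ∈ range p, φ (f ^ (i * j)) w = ∑ j ∈ range p, φ (f ^ j) w := by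
  have him : (range p).image (fun j => i * j % p) = range p := by
    apply Finset.eq_of_subset_of_card_le
    · intro x hx
      obtain ⟨j, -, rfl⟩ := Finset.mem_image.1 hx
      exact Finset.mem_range.2 (Nat.mod_lt _ hp.pos)
    · rw [Finset.card_image_of_injOn]
      intro a ha b hb hab
      have h1 : i * a ≡ i * b [MOD p] := hab
      have h2 : a ≡ b [MOD p] := Nat.ModEq.cancel_left_of_coprime ((Nat.Prime.coprime_iff_not_dvd hp).2 hi) h1
      exact Nat.ModEq.eq_of_lt_of_lt h2 (Finset.mem_range.1 (Finset.mem_coe.1 ha)) (Finset.mem_range.1 (Finset.mem_coe.1 hb))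
  have hinj : Set.InjOn (fun j => i * j % p) (range p : Set ℕ) := by
    rw [← Finset.card_image_iff, him]
  conv_rhs => rw [← him]
  rw [Finset.sum_image hinj]
  refine Finset.sum_congr rfl fun j _ => ?_
  have h1 : f ^ (i * j) = f ^ (i * j % p) := by
    conv_lhs => rw [← Nat.div_add_mod (i * j) p, pow_add, pow_mul, hf, one_pow, one_mul]
  rw [h1]

theorem fix_sum {p : ℕ} {f : L} (hf : f ^ p = 1) (w : W) :
    φ f (∑ j ∈ range p, φ (f ^ j) w) = ∑ j ∈ range p, φ (f ^ j) w := by
  rw [map_sum]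
  have h1 : ∀ j, φ f (φ (f ^ j) w) = φ (f ^ (j + 1)) w := by
    intro j
    rw [← act_mul, ← pow_succ']
  simp only [h1]
  have h2 := Finset.sum_range_succ' (fun j => φ (f ^ j) w) p
  have h3 := Finset.sum_range_succ (fun j => φ (f ^ j) w) p
  rw [h2] at h3
  simp only [hf, pow_zero] at h3
  exact add_right_cancel h3

/-- **Averaging.** -/
theorem avg {p : ℕ} (hp : p.Prime) (hW : ∀ w : W, p • w = 0 → w = 0) {x f : L} (hx : x ^ p = 1) (hf : f ^ p = 1)
    (hxf : x * f = f * x) (h : ∀ (j : ℕ) (w : W), φ (x * f ^ j) w = w → φ f w = w) : φ f = 1 := by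
  apply AddMonoidHom.ext
  intro w
  show φ f w = w
  obtain ⟨N, hN⟩ : ∃ N, N = ∑ j ∈ range p, φ (f ^ j) w := ⟨_, rfl⟩
  have hfN : φ f N = N := by rw [hN]; exact fix_sum φ hf w
  have hcom : ∀ j, Commute x (f ^ j) := fun j => (show Commute x f from hxf).pow_right j
  have hS : ∀ j, φ f (∑ i ∈ range p, φ ((x * f ^ j) ^ i) w) = ∑ i ∈ range p, φ ((x * f ^ j) ^ i) w := by
    intro j
    apply h j
    apply fix_sum
    rw [(hcom j).mul_pow, hx, one_mul, ← pow_mul, mul_comm, pow_mul, hf, one_pow]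
  have hsum : ∑ j ∈ range p, ∑ i ∈ range p, φ ((x * f ^ j) ^ i) w =
      p • w + ∑ i ∈ (range p).erase 0, φ (x ^ i) N := by
    rw [Finset.sum_comm, ← Finset.add_sum_erase _ _ (Finset.mem_range.2 hp.pos)]
    congr 1
    · simp only [pow_zero, act_one]
      rw [Finset.sum_const, Finset.card_range]
    · refine Finset.sum_congr rfl fun i hi => ?_
      rw [Finset.mem_erase, Finset.mem_range] at hi
      have h1 : ¬ p ∣ i := fun hd => by
        have := Nat.le_of_dvd (Nat.pos_of_ne_zero hi.1) hd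
        omega
      rw [hN, ← sum_pow_mul φ hp hf h1, map_sum]
      refine Finset.sum_congr rfl fun j _ => ?_
      rw [(hcom j).mul_pow, act_mul, ← pow_mul, mul_comm j i]
  have hT : φ f (∑ i ∈ (range p).erase 0, φ (x ^ i) N) = ∑ i ∈ (range p).erase 0, φ (x ^ i) N := by
    rw [map_sum]
    refine Finset.sum_congr rfl fun i _ => ?_
    have h1 : Commute f (x ^ i) := ((show Commute x f from hxf).symm).pow_right i
    rw [← act_mul, h1.eq, act_mul, hfN]
  have h1 : φ f (p • w) = p • w := by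
    have h2 := congrArg (φ f) hsum
    rw [map_sum, map_add, hT] at h2
    simp only [hS] at h2
    rw [hsum] at h2
    exact (add_right_cancel h2).symm
  have h2 : p • (φ f w - w) = 0 := by
    rw [smul_sub, ← map_nsmul, h1, sub_self]
  exact sub_eq_zero.1 (hW _ h2)

/-- sums over several periods -/
theorem sum_periods (f : ℕ → W) (m : ℕ) (hf : ∀ i, f (m + i) = f i) (k : ℕ) :
    ∑ i ∈ range (k * m), f i = k • ∑ i ∈ range m, f i := by
  have hf' : ∀ k i, f (k * m + i) = f i := by
    intro k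
    induction k with
    | zero => intro i; rw [zero_mul, zero_add]
    | succ k ih => intro i; rw [Nat.succ_mul, add_assoc, ih, hf]
  induction k with
  | zero => rw [zero_mul, range_zero, sum_empty, zero_smul]
  | succ k ih =>
    rw [Nat.succ_mul, Finset.sum_range_add, ih, succ_nsmul]
    congr 1
    exact Finset.sum_congr rfl fun i _ => hf' k i

theorem smul_ne {r p : ℕ} (hr : r.Prime) (hp : p.Prime) (hrp : r ≠ p) (hW : ∀ w : W, r • w = 0) {w : W}
    (h : p • w = 0) : w = 0 := by
  have h5 : addOrderOf w ∣ Nat.gcd p r :=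
    Nat.dvd_gcd (addOrderOf_dvd_of_nsmul_eq_zero h) (addOrderOf_dvd_of_nsmul_eq_zero (hW w))
  rw [((Nat.coprime_primes hp hr).2 hrp.symm).gcd_eq_one] at h5
  exact AddMonoid.addOrderOf_eq_one_iff.1 (Nat.dvd_one.1 h5)

/-- **Frobenius groups in the centraliser of a `p`-element.** -/
theorem exists_norm_comm [Finite L] {r p : ℕ} (hr : r.Prime) (hp : p.Prime) (hrp : r ≠ p) (hW : ∀ w : W, r • w = 0)
    {x : L} (hx : orderOf x = p) (U : Subgroup L) (hcard : ¬ r ∣ Nat.card U) (hUx : ∀ a ∈ U, x * a = a * x)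
    (hUp : ∀ a ∈ U, a ^ p = 1) (hconj : ∀ a ∈ U, ∃ g : L, g * x * g⁻¹ = x * a ∧ ∀ b ∈ U, g * b = b * g) {c : L}
    (hcx : x * c = c * x) (hn : ∀ a ∈ U, c * a * c⁻¹ ∈ U) (hfix : ∀ i, c ^ i ≠ 1 → ∀ a ∈ U, c ^ i * a = a * c ^ i → a = 1)
    (hcop : (orderOf x).Coprime (orderOf c)) (hU : ∃ a ∈ U, φ a ≠ 1) :
    orderOf (x * c) = p * orderOf c ∧ ∃ w : W, ∑ i ∈ range (orderOf (x * c)), φ ((x * c) ^ i) w ≠ 0 := by
  have hcc : Commute x c := hcx
  have hord : orderOf (x * c) = p * orderOf c := by rw [hcc.orderOf_mul_eq_mul_orderOf_of_coprime hcop, hx]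
  have hpW : ∀ w : W, p • w = 0 → w = 0 := fun w h => smul_ne hr hp hrp hW h
  refine ⟨hord, ?_⟩
  -- `U` is not trivial on the fixed points of `x`
  obtain ⟨a, ha, w1, hw1, hne⟩ : ∃ a ∈ U, ∃ w, φ x w = w ∧ φ a w ≠ w := by
    by_contra hcon
    push Not at hcon
    obtain ⟨a, ha, hne⟩ := hU
    apply hne
    refine avg φ hp hpW (by rw [← hx, pow_orderOf_eq_one]) (hUp a ha) (hUx a ha) fun j w hjw => ?_
    obtain ⟨g, hg, hgU⟩ := hconj (a ^ j) (U.pow_mem ha j)
    rw [← hg, act_mul, act_mul] at hjw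
    have h1 : φ x (φ g⁻¹ w) = φ g⁻¹ w := by
      have h2 := congrArg (φ g⁻¹) hjw
      rwa [← act_mul, inv_mul_cancel, act_one] at h2
    have h2 := hcon a ha _ h1
    have h3 := congrArg (φ g) h2
    rw [← act_mul, ← act_mul, ← act_mul, mul_inv_cancel, act_one, hgU a ha, mul_inv_cancel_right] at h3
    exact h3
  -- the group acting on the fixed points
  have hcC : c ∈ Subgroup.centralizer ({x} : Set L) := Subgroup.mem_centralizer_singleton_iff.2 hcx.symm
  have hUC : U ≤ Subgroup.centralizer ({x} : Set L) := fun b hb =>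
    Subgroup.mem_centralizer_singleton_iff.2 (hUx b hb).symm
  obtain ⟨w, hw⟩ := exists_norm_ne (resW φ x) hr (fun w => Subtype.ext (hW w.1))
    (U.subgroupOf (Subgroup.centralizer ({x} : Set L)))
    (by rwa [Nat.card_congr (Subgroup.subgroupOfEquivOfLe hUC).toEquiv]) ⟨c, hcC⟩
    (fun b hb => by
      rw [Subgroup.mem_subgroupOf] at hb ⊢
      exact hn _ hb)
    (fun i hi b hb hbc => by
      rw [Subgroup.mem_subgroupOf] at hb
      apply Subtype.ext
      refine hfix i (fun h => hi (Subtype.ext h)) b.1 hb ?_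
      exact congrArg Subtype.val hbc)
    ⟨⟨a, hUC ha⟩, Subgroup.mem_subgroupOf.2 ha, fun h => hne (by
      have := DFunLike.congr_fun h ⟨w1, hw1⟩
      exact congrArg Subtype.val this)⟩
  have hoc : orderOf (⟨c, hcC⟩ : Subgroup.centralizer ({x} : Set L)) = orderOf c := Subgroup.orderOf_mk _ _
  rw [hoc] at hw
  have hw' : ∑ i ∈ range (orderOf c), φ (c ^ i) w.1 ≠ 0 := by
    intro h
    apply hw
    apply Subtype.ext
    rw [AddSubgroup.val_finsetSum]
    exact h
  refine ⟨w.1, fun h => hw' ?_⟩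
  apply hpW
  rw [hord] at h
  have hfixp : ∀ i, φ (x ^ i) w.1 = w.1 := by
    intro i
    induction i with
    | zero => rw [pow_zero, act_one]
    | succ i ih => rw [pow_succ, act_mul, show φ x w.1 = w.1 from w.2, ih]
  have h1 : ∀ i, φ ((x * c) ^ i) w.1 = φ (c ^ i) w.1 := by
    intro i
    rw [hcc.mul_pow, (hcc.pow_pow i i).eq, act_mul, hfixp]
  simp only [h1] at h
  rw [sum_periods (fun i => φ (c ^ i) w.1) (orderOf c) (fun i => by
    rw [pow_add, pow_orderOf_eq_one, one_mul])] at h
  exact h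

end Cfsg.Agent.H72.CVU
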