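import Cfsg.Agent.H72.CVU.Tri
import Cfsg.Agent.H381.CV.UOrb

/-!
# `SU_5(q)`: the `r`-elements, `5 ≤ r ∣ q + 1`, have exponent dividing `q + 1` (S3442, row X5)
-/

set_option autoImplicit false
set_option linter.unusedSectionVars false

namespace Cfsg.Agent.H72.CVU

open Matrix Cfsg Cfsg.Agent.H364.Unitary Cfsg.Agent.H364.Regular Cfsg.Agent.H381.CV

variable {F : Type*} [Field F] [Fintype F] {q : ℕ}

theorem sg_mod {q r e : ℕ} (hrq : r ∣ q + 1) : ((sg q e : ℤ) : ZMod r) = (e : ZMod r) := by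
  have h2 : ((q + 1 : ℕ) : ZMod r) = 0 := (ZMod.natCast_eq_zero_iff _ _).2 hrq
  push_cast at h2
  have hq : (q : ZMod r) = -1 := eq_neg_of_add_eq_zero_left h2
  unfold sg
  push_cast
  rw [hq, neg_neg]
  simp

theorem gcd_dvd {q r e t : ℕ} (hr : r.Prime) (hrq : r ∣ q + 1) (he : ¬ r ∣ e) :
    Int.gcd ((r ^ t : ℕ) : ℤ) ((-(q : ℤ)) ^ e - 1) ∣ q + 1 := by
  rw [← sg_mul]
  have h1 : ¬ (r : ℤ) ∣ sg q e := by
    intro h
    rw [← ZMod.intCast_zmod_eq_zero_iff_dvd, sg_mod hrq, ZMod.natCast_eq_zero_iff] at h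
    exact he h
  have h2 : Int.gcd ((r ^ t : ℕ) : ℤ) (sg q e) = 1 := by
    show Nat.gcd (Int.natAbs ((r ^ t : ℕ) : ℤ)) (sg q e).natAbs = 1
    rw [Int.natAbs_natCast]
    apply Nat.Coprime.pow_left
    rw [hr.coprime_iff_not_dvd]
    rwa [Int.natCast_dvd] at h1
  have h3 : Int.gcd ((r ^ t : ℕ) : ℤ) (sg q e * (-(q : ℤ) - 1)) ∣ (-(q : ℤ) - 1).natAbs := by
    show Nat.gcd (Int.natAbs ((r ^ t : ℕ) : ℤ)) (sg q e * (-(q : ℤ) - 1)).natAbs ∣ _
    rw [Int.natAbs_mul]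
    exact Nat.Coprime.dvd_of_dvd_mul_left (Nat.Coprime.coprime_dvd_left (Nat.gcd_dvd_left _ _) h2) (Nat.gcd_dvd_right _ _)
  have h4 : (-(q : ℤ) - 1).natAbs = q + 1 := by
    have : -(q : ℤ) - 1 = -((q + 1 : ℕ) : ℤ) := by push_cast; ring
    rw [this, Int.natAbs_neg, Int.natAbs_natCast]
  rwa [h4] at h3

theorem r_ne_zero (hF : Fintype.card F = q ^ 2) {r : ℕ} (hrq : r ∣ q + 1) : (r : F) ≠ 0 := by
  intro h
  obtain ⟨k, hk⟩ := hrq
  have h1 : ((q + 1 : ℕ) : F) = 0 := by rw [hk, Nat.cast_mul, h, zero_mul]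
  push_cast at h1
  rw [q_zero hF, zero_add] at h1
  exact one_ne_zero h1

/-- a full orbit of eigenvalues -/
theorem full_orbit {K : Type*} [Field K] [Algebra F K] (hF : Fintype.card F = q ^ 2) {g : SU 5 F q}
    {x : K} {v : Fin 5 → K} (hv : v ≠ 0) (h : mK K g *ᵥ v = x • v)
    (hno : ∀ j, 1 ≤ j → j ≤ 4 → (tau q)^[j] x ≠ x) : x ^ sg q 5 = 1 := by
  have hx0 : x ≠ 0 := (transpose_eigen K hF g hv h).1
  choose w hw hw2 using exists_iter K hF g hv h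
  have hE : Eig (mK K g) (fun i : Fin 5 => x ^ ((-(q : ℤ)) ^ (i : ℕ))) (fun i => w i) := by
    refine ⟨?_, fun i => hw i, fun i => hw2 i⟩
    have key : ∀ i j : ℕ, i < j → j < 5 → x ^ ((-(q : ℤ)) ^ i) ≠ x ^ ((-(q : ℤ)) ^ j) := by
      intro i j hij hj e
      rw [← tau_iter, ← tau_iter] at e
      apply hno (j - i) (by omega) (by omega)
      apply (tau_injective (K := K) hF).iterate i
      rw [← Function.iterate_add_apply, show i + (j - i) = j by omega]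
      exact e.symm
    intro i j hij
    apply Fin.ext
    by_contra hne
    rcases Nat.lt_or_gt_of_ne hne with h1 | h1
    · exact key i j h1 j.2 hij
    · exact key j i h1 i.2 hij.symm
  have h1 := hE.det_eq (Y := mK K g) (mu := fun i : Fin 5 => x ^ ((-(q : ℤ)) ^ (i : ℕ))) hE.eq
  rw [mK_det] at h1
  have h2 : ∏ i : Fin 5, x ^ ((-(q : ℤ)) ^ (i : ℕ)) = x ^ sg q 5 := by
    have : ∀ s : Finset ℕ, ∏ i ∈ s, x ^ ((-(q : ℤ)) ^ i) = x ^ (∑ i ∈ s, (-(q : ℤ)) ^ i) := by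
      intro s
      induction s using Finset.induction_on with
      | empty => simp
      | insert a s ha ih => rw [Finset.prod_insert ha, Finset.sum_insert ha, zpow_add₀ hx0, ih]
    rw [Fin.prod_univ_eq_prod_range (fun i => x ^ ((-(q : ℤ)) ^ i)) 5, this]
    rfl
  rw [← h2]
  exact h1.symm

/-- **`r`-elements of `SU_5(q)`, `5 ≤ r ∣ q + 1`.** -/
theorem pow_q1 (hF : Fintype.card F = q ^ 2) {r : ℕ} (hr : r.Prime) (hr5 : 5 ≤ r) (hrq : r ∣ q + 1) {g : SU 5 F q} {t : ℕ}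
    (hg : g ^ (r ^ t) = 1) : g ^ (q + 1) = 1 := by
  classical
  by_contra hne
  have hrF := r_ne_zero hF hrq
  obtain ⟨x, hx, hx1⟩ := exists_Ev (K := AlgebraicClosure F) (g := g) (k := r ^ t) (s := q + 1)
    (by push_cast; exact pow_ne_zero _ hrF) (by rw [← pow_mul, mul_comm, pow_mul, hg, one_pow]) hne
  have hxr : x ^ (r ^ t) = 1 := pow_Ev hg hx
  have hx0 := ne_zero_Ev hF hx
  have key : ∀ j, 1 ≤ j → ¬ r ∣ j → (tau q)^[j] x ≠ x := by
    intro j _ hj h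
    rw [tau_iter_eq hx0] at h
    exact hx1 (pow_eq_one_of_zpow hxr h (gcd_dvd hr hrq hj))
  obtain ⟨v, hv, h⟩ := mem_Ev.1 hx
  have h1 : x ^ sg q 5 = 1 := full_orbit hF hv h (fun j h1 h4 => key j h1 (fun hd => by
    have := Nat.le_of_dvd (by omega) hd
    omega))
  obtain ⟨j, hj1, hj2, hj3⟩ := exists_period (tau_injective (K := AlgebraicClosure F) hF) (S := Ev _ g)
    (fun x hx => next_Ev hF hx) hx
  have hj5 : j ≤ 5 := hj2.trans (card_Ev g)
  have hrj : r ∣ j := by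
    by_contra hd
    exact key j hj1 hd hj3
  have hr5' : r = 5 := by
    have := Nat.le_of_dvd (by omega) hrj
    omega
  subst hr5'
  apply hx1
  have h5 : x ^ 5 = 1 := by
    refine pow_eq_one_of_zpow hxr h1 ?_
    have h2 : Int.gcd ((5 ^ t : ℕ) : ℤ) (sg q 5) ∣ 5 ^ t := by
      have := Int.gcd_dvd_natAbs_left ((5 ^ t : ℕ) : ℤ) (sg q 5)
      rwa [Int.natAbs_natCast] at this
    obtain ⟨s, hs, he⟩ := (Nat.dvd_prime_pow (by norm_num : Nat.Prime 5)).1 h2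
    rw [he]
    by_contra hno
    apply not_25 q
    have h3 : 2 ≤ s := by
      by_contra h4
      apply hno
      have : s ≤ 1 := by omega
      exact (pow_dvd_pow 5 this).trans (by norm_num)
    have h4 : ((5 ^ s : ℕ) : ℤ) ∣ sg q 5 := by
      rw [← he]
      exact Int.gcd_dvd_right _ _
    have h6 : ((25 : ℕ) : ℤ) ∣ sg q 5 := by
      refine dvd_trans ?_ h4
      have : (25 : ℕ) ∣ 5 ^ s := (by norm_num : (25 : ℕ) = 5 ^ 2) ▸ pow_dvd_pow 5 h3
      exact_mod_cast this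
    exact_mod_cast h6
  obtain ⟨k, hk⟩ := hrq
  rw [hk, pow_mul, h5, one_pow]

/-- **The bound for the orders of `r`-elements in `PSU_5(q)`.** -/
theorem psu_five_bound (hF : Fintype.card F = q ^ 2) {r : ℕ} (hr : r.Prime) (hr5 : 5 ≤ r) (hrq : r ∣ q + 1) {b : ℕ}
    (hb : ¬ r ^ (b + 1) ∣ q + 1) (y : PSU 5 F q) : orderOf y ≠ r * r ^ b := by
  intro hy
  rw [← pow_succ'] at hy
  have hfin : Finite (SU 5 F q) := Subtype.finite
  obtain ⟨g, rfl⟩ := QuotientGroup.mk_surjective y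
  have hg0 : orderOf g ≠ 0 := (orderOf_pos g).ne'
  obtain ⟨a, k', hk', hka⟩ := Nat.exists_eq_pow_mul_and_not_dvd hg0 r hr.ne_one
  have h1 : (g ^ k') ^ (r ^ a) = 1 := by rw [← pow_mul, mul_comm, ← hka, pow_orderOf_eq_one]
  have h2 := pow_q1 hF hr hr5 hrq h1
  have h3 : (QuotientGroup.mk g : PSU 5 F q) ^ (k' * (q + 1)) = 1 := by
    rw [← QuotientGroup.mk_pow, pow_mul, h2]; rfl
  have h4 := orderOf_dvd_of_pow_eq_one h3
  rw [hy] at h4
  exact hb ((Nat.Coprime.pow_left _ ((hr.coprime_iff_not_dvd).2 hk')).dvd_of_dvd_mul_left h4)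

end Cfsg.Agent.H72.CVU
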