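import Cfsg.Agent.LieClassical.HermSiegel
import Cfsg.Agent.LieClassical.SUBasic
import Cfsg.Agent.H357.CV.Tool

/-!
# `SU_5(q)`: the root group of a totally isotropic plane and elements acting on it (S3442, row X5)
-/

set_option autoImplicit false
set_option linter.unusedSectionVars false

namespace Cfsg.Agent.H72.CVU

open Matrix Cfsg Cfsg.Agent.LieClassical.HermBasic Cfsg.Agent.LieClassical.HermSiegel Cfsg.Agent.LieClassical.SUBasic

universe u v

variable {F : Type v} [Field F] [Fintype F] {q : ℕ}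

theorem herm5 (u v : Fin 5 → F) : hermForm 5 F q u v =
    u 0 * v 0 ^ q + u 1 * v 1 ^ q + u 2 * v 2 ^ q + u 3 * v 3 ^ q + u 4 * v 4 ^ q := by
  rw [herm_def, Fin.sum_univ_five]

/-- first isotropic vector -/
def e1 (ε : F) : Fin 5 → F := ![1, ε, 0, 0, 0]
/-- second isotropic vector -/
def e2 (ε : F) : Fin 5 → F := ![0, 0, 1, ε, 0]
/-- a vector of norm one -/
def w0 : Fin 5 → F := ![0, 0, 0, 0, 1]

section

variable (hF : Fintype.card F = q ^ 2) {ε : F} (hε : ε * ε ^ q = -1)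

include hF

theorem exists_eps : ∃ ε : F, ε * ε ^ q = -1 := by
  obtain ⟨x, hx⟩ := exists_norm_eq hF (c := (-1 : F)) (by rw [neg_pow_q hF, one_pow])
  exact ⟨x, hx⟩

theorem h00 : (0 : F) ^ q = 0 := zero_pow_q hF

include hε

theorem h11 : hermForm 5 F q (e1 ε) (e1 ε) = 0 := by
  rw [herm5]
  simp [e1, h00 hF, hε]

theorem h22 : hermForm 5 F q (e2 ε) (e2 ε) = 0 := by
  rw [herm5]
  simp [e2, h00 hF, hε]

omit hε

theorem h12 : hermForm 5 F q (e1 ε) (e2 ε) = 0 := by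
  rw [herm5]
  simp [e1, e2, h00 hF]

theorem h21 : hermForm 5 F q (e2 ε) (e1 ε) = 0 := by
  rw [herm5]
  simp [e1, e2, h00 hF]

theorem hw1 : hermForm 5 F q (w0 : Fin 5 → F) (e1 ε) = 0 := by
  rw [herm5]
  simp [w0, e1, h00 hF]

theorem h1w : hermForm 5 F q (e1 ε) (w0 : Fin 5 → F) = 0 := by
  rw [herm5]
  simp [w0, e1, h00 hF]

theorem hw2 : hermForm 5 F q (w0 : Fin 5 → F) (e2 ε) = 0 := by
  rw [herm5]
  simp [w0, e2, h00 hF]

theorem h2w : hermForm 5 F q (e2 ε) (w0 : Fin 5 → F) = 0 := by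
  rw [herm5]
  simp [w0, e2, h00 hF]

omit hF in
theorem hww : hermForm 5 F q (w0 : Fin 5 → F) (w0 : Fin 5 → F) = 1 := by
  rw [herm5]
  simp [w0]

include hε

theorem isF (l : F) : IsSiegel q (e2 ε) (l • e1 ε) (0 : F) :=
  ⟨h22 hF hε, by rw [herm_smul_left, h12 hF, mul_zero],
    by rw [h00 hF, herm_smul_left, herm_smul_right, h11 hF hε]; ring⟩

/-- the root group -/
def fl (l : F) : SU 5 F q := siegel hF (e2 ε) (l • e1 ε) 0 (isF hF hε l)

theorem fl_mul (l m : F) : fl hF hε l * fl hF hε m = fl hF hε (l + m) := by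
  unfold fl
  rw [siegel_mul]
  apply siegel_congr
  · rfl
  · rw [add_smul]
  · rw [herm_smul_left, herm_smul_right, h11 hF hε]; ring

theorem fl_zero : fl hF hε 0 = 1 := by
  have h := fl_mul hF hε 0 0
  rw [add_zero] at h
  exact mul_eq_left.1 h

theorem act_fl (l : F) (v : Fin 5 → F) : act (fl hF hε l) v = v + hermForm 5 F q v (e2 ε) • (l • e1 ε) -
    hermForm 5 F q v (l • e1 ε) • e2 ε := by
  unfold fl
  rw [act_siegel, zero_mul, zero_sub, neg_smul]
  abel

/-- conjugation -/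
theorem conj_fl {y : SU 5 F q} {b c : F} (h1 : act y (e1 ε) = b • e1 ε) (h2 : act y (e2 ε) = c • e2 ε)
    (hc : c ^ (q + 1) = 1) (l : F) : y * fl hF hε l * y⁻¹ = fl hF hε (b * c⁻¹ * l) := by
  have hc0 : c ≠ 0 := by
    rintro rfl
    rw [zero_pow (Nat.succ_ne_zero _)] at hc
    exact zero_ne_one hc
  have hcq : c ^ q = c⁻¹ := by
    rw [pow_succ] at hc
    exact eq_inv_of_mul_eq_one_left hc
  unfold fl
  rw [conj_siegel]
  have e : IsSiegel q (c • e2 ε) (l • b • e1 ε) (0 : F) := by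
    have := (isF hF hε l).map y
    rwa [act_smul, h1, h2] at this
  have e' : IsSiegel q (e2 ε) (l • b • e1 ε) (0 : F) := by
    rw [smul_smul]
    exact isF hF hε _
  rw [siegel_congr hF _ e'.smul h2 (by rw [act_smul, h1]) rfl, siegel_smul hF e']
  apply siegel_congr
  · rfl
  · rw [hcq, smul_smul, smul_smul]
    congr 1
    ring
  · ring

end

/-! ### scalars -/

theorem exists_scal (hF : Fintype.card F = q ^ 2) {z : SU 5 F q} (hz : z ∈ Subgroup.center (SU 5 F q)) :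
    ∃ s : F, ∀ v, act z v = s • v := by
  obtain ⟨c, hcn, hcq, rfl⟩ := (mem_center_SU_iff hF (by norm_num) z).1 hz
  refine ⟨c, fun v => ?_⟩
  rw [act_def]
  show Matrix.diagonal (fun _ => c) *ᵥ v = c • v
  funext i
  rw [Matrix.mulVec_diagonal, Pi.smul_apply, smul_eq_mul]

theorem e1_ne (ε : F) : e1 ε ≠ 0 := by
  intro h
  have := congrFun h 0
  simp [e1] at this

theorem e2_ne (ε : F) : e2 ε ≠ 0 := by
  intro h
  have := congrFun h 2
  simp [e2] at this

theorem eq_one_of_fix (hF : Fintype.card F = q ^ 2) {z : SU 5 F q} (hz : z ∈ Subgroup.center (SU 5 F q)) {v : Fin 5 → F}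
    (hv : v ≠ 0) (h : act z v = v) : z = 1 := by
  obtain ⟨s, hs⟩ := exists_scal hF hz
  have h1 : (s - 1) • v = 0 := by rw [sub_smul, one_smul, ← hs, h, sub_self]
  have h2 : s = 1 := sub_eq_zero.1 ((smul_eq_zero.1 h1).resolve_right hv)
  apply ext_act
  intro w
  rw [hs, h2, one_smul, act_one]

section

variable (hF : Fintype.card F = q ^ 2) {ε : F} (hε : ε * ε ^ q = -1)

theorem fl_eq_one {l : F} (h : fl hF hε l = 1) : l = 0 := by
  have h1 := congrArg (fun g => act g (Pi.single 2 1)) h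
  simp only [act_one] at h1
  rw [act_fl] at h1
  have h2 := congrFun h1 0
  have e3 : hermForm 5 F q (Pi.single 2 1) (e2 ε) = 1 := by
    rw [herm5]
    simp [e2]
  have e4 : hermForm 5 F q (Pi.single 2 1) (l • e1 ε) = 0 := by
    rw [herm5]
    simp [e1, h00 hF]
  rw [e3, e4] at h2
  simp only [Pi.add_apply, Pi.sub_apply, Pi.smul_apply, smul_eq_mul, one_mul, zero_mul, sub_zero] at h2
  have e5 : e1 ε 0 = 1 := rfl
  rw [e5, mul_one] at h2
  exact add_eq_left.1 h2

/-- the homomorphism into `PSU` -/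
def Ph : Multiplicative F →* PSU 5 F q where
  toFun l := QuotientGroup.mk (fl hF hε l.toAdd)
  map_one' := by
    show QuotientGroup.mk (fl hF hε (Multiplicative.toAdd 1)) = _
    rw [toAdd_one, fl_zero]
    rfl
  map_mul' a b := by
    show QuotientGroup.mk (fl hF hε (Multiplicative.toAdd (a * b))) = _
    rw [toAdd_mul, ← fl_mul]
    rfl

theorem Ph_apply (l : F) : Ph hF hε (Multiplicative.ofAdd l) = QuotientGroup.mk (fl hF hε l) := rfl

theorem Ph_injective : Function.Injective (Ph hF hε) := by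
  rw [injective_iff_map_eq_one]
  intro a ha
  have h1 : fl hF hε a.toAdd ∈ Subgroup.center (SU 5 F q) := (QuotientGroup.eq_one_iff _).1 ha
  have h2 : fl hF hε a.toAdd = 1 := by
    apply eq_one_of_fix hF h1 (e2_ne ε)
    unfold fl
    exact act_siegel_self _ _
  have h3 := fl_eq_one hF hε h2
  exact Multiplicative.toAdd.injective (by rw [h3]; rfl)

theorem card_range : Nat.card (Ph hF hε).range = q ^ 2 := by
  rw [Nat.card_congr (MonoidHom.ofInjective (Ph_injective hF hε)).symm.toEquiv, Nat.card_congr Multiplicative.toAdd,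
    Nat.card_eq_fintype_card, hF]

variable {y : SU 5 F q} {b c : F} (h1 : act y (e1 ε) = b • e1 ε) (h2 : act y (e2 ε) = c • e2 ε)
  (hc : c ^ (q + 1) = 1)

include h1 in
theorem act_pow1 (i : ℕ) : act (y ^ i) (e1 ε) = b ^ i • e1 ε := by
  induction i with
  | zero => rw [pow_zero, pow_zero, act_one, one_smul]
  | succ i ih => rw [pow_succ, act_mul, h1, act_smul, ih, smul_smul, pow_succ, mul_comm]

include h2 in
theorem act_pow2 (i : ℕ) : act (y ^ i) (e2 ε) = c ^ i • e2 ε := by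
  induction i with
  | zero => rw [pow_zero, pow_zero, act_one, one_smul]
  | succ i ih => rw [pow_succ, act_mul, h2, act_smul, ih, smul_smul, pow_succ, mul_comm]

include hF h1 h2 hc

theorem conj_Ph (i : ℕ) (l : F) : (QuotientGroup.mk y : PSU 5 F q) ^ i * Ph hF hε (Multiplicative.ofAdd l) =
    Ph hF hε (Multiplicative.ofAdd ((b * c⁻¹) ^ i * l)) * (QuotientGroup.mk y : PSU 5 F q) ^ i := by
  have hci : (c ^ i) ^ (q + 1) = 1 := by rw [← pow_mul, mul_comm, pow_mul, hc, one_pow]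
  have h := conj_fl hF hε (act_pow1 h1 i) (act_pow2 h2 i) hci l
  rw [mul_inv_eq_iff_eq_mul] at h
  have e : (b * c⁻¹) ^ i * l = b ^ i * (c ^ i)⁻¹ * l := by rw [mul_pow, inv_pow]
  rw [e]
  exact congrArg (fun g : SU 5 F q => (QuotientGroup.mk g : PSU 5 F q)) h

theorem pow_eq_one_imp {i : ℕ} (h : (QuotientGroup.mk y : PSU 5 F q) ^ i = 1) : (b * c⁻¹) ^ i = 1 := by
  have hz : y ^ i ∈ Subgroup.center (SU 5 F q) := by
    rw [← QuotientGroup.eq_one_iff, QuotientGroup.mk_pow, h]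
  obtain ⟨s, hs⟩ := exists_scal hF hz
  have e1' := act_pow1 h1 i
  have e2' := act_pow2 h2 i
  rw [hs] at e1' e2'
  have hc0 : c ≠ 0 := by
    rintro rfl
    rw [zero_pow (Nat.succ_ne_zero _)] at hc
    exact zero_ne_one hc
  have a1 : s = b ^ i := by
    have : (s - b ^ i) • e1 ε = 0 := by rw [sub_smul, e1', sub_self]
    exact sub_eq_zero.1 ((smul_eq_zero.1 this).resolve_right (e1_ne ε))
  have a2 : s = c ^ i := by
    have : (s - c ^ i) • e2 ε = 0 := by rw [sub_smul, e2', sub_self]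
    exact sub_eq_zero.1 ((smul_eq_zero.1 this).resolve_right (e2_ne ε))
  rw [mul_pow, inv_pow, ← a1, a2, mul_inv_cancel₀ (pow_ne_zero _ hc0)]

theorem pow_eq_one_iff' (hy : ∀ i, (b * c⁻¹) ^ i = 1 → y ^ i = 1) (i : ℕ) :
    (QuotientGroup.mk y : PSU 5 F q) ^ i = 1 ↔ (b * c⁻¹) ^ i = 1 := by
  refine ⟨pow_eq_one_imp hF h1 h2 hc, fun h => ?_⟩
  rw [← QuotientGroup.mk_pow, hy i h]
  rfl

theorem orderOf_mk (hy : ∀ i, (b * c⁻¹) ^ i = 1 → y ^ i = 1) :
    orderOf (QuotientGroup.mk y : PSU 5 F q) = orderOf (b * c⁻¹) := by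
  rw [orderOf_eq_orderOf_iff]
  exact pow_eq_one_iff' hF h1 h2 hc hy

theorem conj_mem (a : PSU 5 F q) (ha : a ∈ (Ph hF hε).range) :
    (QuotientGroup.mk y : PSU 5 F q) * a * (QuotientGroup.mk y : PSU 5 F q)⁻¹ ∈ (Ph hF hε).range := by
  obtain ⟨l, rfl⟩ := ha
  have h := conj_Ph hF hε h1 h2 hc 1 l.toAdd
  rw [pow_one, pow_one] at h
  refine ⟨Multiplicative.ofAdd (b * c⁻¹ * l.toAdd), ?_⟩
  rw [eq_mul_inv_iff_mul_eq]
  exact h.symm

theorem fix_free (hy : ∀ i, (b * c⁻¹) ^ i = 1 → y ^ i = 1) (i : ℕ) (hi : (QuotientGroup.mk y : PSU 5 F q) ^ i ≠ 1)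
    (a : PSU 5 F q) (ha : a ∈ (Ph hF hε).range)
    (h : (QuotientGroup.mk y : PSU 5 F q) ^ i * a = a * (QuotientGroup.mk y : PSU 5 F q) ^ i) : a = 1 := by
  obtain ⟨l, rfl⟩ := ha
  have h3 : Ph hF hε (Multiplicative.ofAdd l.toAdd) =
      Ph hF hε (Multiplicative.ofAdd ((b * c⁻¹) ^ i * l.toAdd)) :=
    mul_right_cancel (h.symm.trans (conj_Ph hF hε h1 h2 hc i l.toAdd))
  have h4 : l.toAdd = (b * c⁻¹) ^ i * l.toAdd := Multiplicative.ofAdd.injective (Ph_injective hF hε h3)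
  by_contra hne
  have hl : l.toAdd ≠ 0 := by
    intro h0
    apply hne
    have : l = 1 := Multiplicative.toAdd.injective (by rw [h0]; rfl)
    rw [this, map_one]
  have h5 : ((b * c⁻¹) ^ i - 1) * l.toAdd = 0 := by rw [sub_mul, one_mul, ← h4, sub_self]
  exact hi ((pow_eq_one_iff' hF h1 h2 hc hy i).2 (sub_eq_zero.1 ((mul_eq_zero.1 h5).resolve_right hl)))

end

end Cfsg.Agent.H72.CVU
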