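import Cfsg.Agent.H72.CVU.Five
import Cfsg.Agent.H72.CVU.Fr
import Cfsg.Agent.S0283

/-!
# `PSU_5(q)`, `5 ≤ r ∣ q + 1` (S3442, row X5)
-/

set_option autoImplicit false
set_option linter.unusedSectionVars false

namespace Cfsg.Agent.H72.CVU

open Matrix Cfsg Cfsg.Agent.LieClassical.HermBasic Cfsg.Agent.LieClassical.HermSiegel Cfsg.Agent.LieClassical.SUBasic
  Cfsg.Agent.H373.CV

universe u v

variable {F : Type v} [Field F] [Fintype F] {q : ℕ}

theorem exists_orderOf (hF : Fintype.card F = q ^ 2) {k : ℕ} (hk : k ∣ q ^ 2 - 1) : ∃ b : F, orderOf b = k := by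
  obtain ⟨g, hg⟩ := IsCyclic.exists_ofOrder_eq_natCard (α := Fˣ)
  rw [Nat.card_units, Nat.card_eq_fintype_card, hF] at hg
  obtain ⟨m, hm⟩ := hk
  have h2 := two_le hF
  have h0 : 0 < q ^ 2 - 1 := by
    have : 2 ^ 2 ≤ q ^ 2 := Nat.pow_le_pow_left h2 2
    omega
  have hm0 : m ≠ 0 := by
    rintro rfl
    omega
  refine ⟨((g ^ m : Fˣ) : F), ?_⟩
  rw [orderOf_units, orderOf_pow_of_dvd hm0 (by rw [hg, hm]; exact dvd_mul_left m k), hg, hm]
  exact Nat.mul_div_cancel _ (Nat.pos_of_ne_zero hm0)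

theorem simple5 (hF : Fintype.card F = q ^ 2) : IsSimpleGroup (PSU 5 F q) := S0283.result hF 5 (by norm_num) (by norm_num)

theorem not_dvd_q {r : ℕ} (hr : r.Prime) (hrq : r ∣ q + 1) : ¬ r ∣ q := by
  intro h
  have := (Nat.dvd_add_right h).1 hrq
  exact hr.one_lt.ne' (Nat.dvd_one.1 this)

/-- **`r ≥ 5`.** -/
theorem hit_five (hF : Fintype.card F = q ^ 2) {r : ℕ} (hr : r.Prime) (hr5 : 5 ≤ r) (hrq : r ∣ q + 1) :
    Hit.{u, v} r (PSU 5 F q) := by
  have hsimp := simple5 hF
  have hfin : Finite (SU 5 F q) := Subtype.finite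
  have hfin' : Finite (PSU 5 F q) := inferInstance
  obtain ⟨ε, hε⟩ := exists_eps hF
  obtain ⟨m, k, hk, hm⟩ := Nat.exists_eq_pow_mul_and_not_dvd (Nat.succ_ne_zero q) r hr.ne_one
  have hm' : q + 1 = r ^ m * k := hm
  obtain ⟨b, hb⟩ := exists_orderOf hF (k := r ^ m) (by
    have h1 : q ^ 2 - 1 = (q + 1) * (q - 1) := by
      have := Nat.sq_sub_sq q 1
      rwa [one_pow] at this
    rw [h1, hm', mul_assoc]
    exact dvd_mul_right _ _)
  have hbq : b ^ (q + 1) = 1 := by rw [hm', pow_mul, ← hb, pow_orderOf_eq_one, one_pow]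
  have hb0 : b ≠ 0 := by
    rintro rfl
    rw [zero_pow (Nat.succ_ne_zero _)] at hbq
    exact zero_ne_one hbq
  let a : Fin 5 → F := ![b, b, 1, 1, (b ^ 2)⁻¹]
  have ha1 : ∏ i, a i = 1 := by
    rw [Fin.prod_univ_five]
    show b * b * 1 * 1 * (b ^ 2)⁻¹ = 1
    field_simp
  have haq : ∀ i, a i ^ (q + 1) = 1 := by
    have h2 : ((b ^ 2)⁻¹ : F) ^ (q + 1) = 1 := by
      rw [inv_pow, ← pow_mul, mul_comm, pow_mul, hbq, one_pow, inv_one]
    intro i
    fin_cases i
    · exact hbq
    · exact hbq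
    · exact one_pow _
    · exact one_pow _
    · exact h2
  let y : SU 5 F q := suDiag q a ha1 haq
  have hya : ∀ v : Fin 5 → F, act y v = fun i => a i * v i := by
    intro v
    funext i
    rw [act_def]
    show (Matrix.diagonal a *ᵥ v) i = _
    rw [Matrix.mulVec_diagonal]
  have h1 : act y (e1 ε) = b • e1 ε := by
    rw [hya]
    funext i
    fin_cases i <;> simp [a, e1]
  have h2 : act y (e2 ε) = (1 : F) • e2 ε := by
    rw [hya]
    funext i
    fin_cases i <;> simp [a, e2]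
  have hc : (1 : F) ^ (q + 1) = 1 := one_pow _
  have hy : ∀ i, (b * (1 : F)⁻¹) ^ i = 1 → y ^ i = 1 := by
    intro i hi
    rw [inv_one, mul_one] at hi
    have hyi : ∀ j, ∀ v : Fin 5 → F, act (y ^ j) v = fun i => a i ^ j * v i := by
      intro j
      induction j with
      | zero => intro v; funext i; rw [pow_zero, act_one, pow_zero, one_mul]
      | succ j ih =>
        intro v
        rw [pow_succ, act_mul, ih, hya]
        funext i
        rw [pow_succ]
        ring
    apply ext_act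
    intro v
    rw [hyi, act_one]
    have hai : ∀ n, a n ^ i = 1 := by
      have h2 : ((b ^ 2)⁻¹ : F) ^ i = 1 := by rw [inv_pow, ← pow_mul, mul_comm, pow_mul, hi, one_pow, inv_one]
      intro n
      fin_cases n
      · exact hi
      · exact hi
      · exact one_pow _
      · exact one_pow _
      · exact h2
    funext n
    rw [hai, one_mul]
  refine H357.CV.hit_of_frob hr (hT hF hr hrq) (Ph hF hε).range ?_ ?_ (QuotientGroup.mk y) ?_ ?_ ?_
  · intro h
    have h3 := card_range hF hε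
    rw [h, Subgroup.card_bot] at h3
    have := two_le hF
    nlinarith
  · rw [card_range hF hε]
    intro h
    exact not_dvd_q hr hrq (hr.dvd_of_dvd_pow h)
  · exact conj_mem hF hε h1 h2 hc
  · exact fix_free hF hε h1 h2 hc hy
  · intro z
    rw [orderOf_mk hF h1 h2 hc hy, inv_one, mul_one, hb]
    refine psu_five_bound hF hr hr5 hrq ?_ z
    rw [hm', pow_succ]
    intro h
    exact hk (Nat.dvd_of_mul_dvd_mul_left (pow_pos hr.pos m) h)

end Cfsg.Agent.H72.CVU
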