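import Cfsg.Agent.H72.CVU.Two
import Cfsg.Agent.H72.CVU.HitFive
import Cfsg.Agent.H72.CVU.Avg

/-!
# `PSU_5(q)`, `q` odd, `r = 2` (S3442, row X5)
-/

set_option autoImplicit false
set_option linter.unusedSectionVars false

namespace Cfsg.Agent.H72.CVU

open Matrix Cfsg Cfsg.Agent.LieClassical.HermBasic Cfsg.Agent.LieClassical.HermSiegel Cfsg.Agent.LieClassical.SUBasic
  Cfsg.Agent.H373.CV

universe u v

variable {F : Type v} [Field F] [Fintype F] {q : ℕ}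

/-! ### the toral element -/

/-- the matrix -/
def ymat (s t u z : F) : Matrix (Fin 5) (Fin 5) F :=
  !![s, t, 0, 0, 0; u, s, 0, 0, 0; 0, 0, z, 0, 0; 0, 0, 0, z, 0; 0, 0, 0, 0, z]

theorem ymat_mulVec (s t u z : F) (v : Fin 5 → F) : ymat s t u z *ᵥ v =
    ![s * v 0 + t * v 1, u * v 0 + s * v 1, z * v 2, z * v 3, z * v 4] := by
  funext i
  fin_cases i <;> simp [ymat, Matrix.mulVec, dotProduct, Fin.sum_univ_five]

theorem ymat_det (s t u z : F) : (ymat s t u z).det = (s * s - t * u) * z ^ 3 := by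
  simp [ymat, Matrix.det_succ_row_zero, Fin.sum_univ_succ, Fin.succAbove]
  ring

theorem ymat_herm (hF : Fintype.card F = q ^ 2) {s t u z K : F} (hs : s ^ q = K * s) (ht : t ^ q = -(K * u))
    (hu : u ^ q = -(K * t)) (hz : z * z ^ q = 1) (hK : K * (s * s - t * u) = 1) (x y : Fin 5 → F) :
    hermForm 5 F q (ymat s t u z *ᵥ x) (ymat s t u z *ᵥ y) = hermForm 5 F q x y := by
  rw [herm5, herm5, ymat_mulVec, ymat_mulVec]
  show (s * x 0 + t * x 1) * (s * y 0 + t * y 1) ^ q + (u * x 0 + s * x 1) * (u * y 0 + s * y 1) ^ q +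
    (z * x 2) * (z * y 2) ^ q + (z * x 3) * (z * y 3) ^ q + (z * x 4) * (z * y 4) ^ q = _
  rw [add_pow_q hF, add_pow_q hF, mul_pow, mul_pow, mul_pow, mul_pow, mul_pow, mul_pow, mul_pow, hs, ht, hu]
  linear_combination (x 0 * y 0 ^ q + x 1 * y 1 ^ q) * hK + (x 2 * y 2 ^ q + x 3 * y 3 ^ q + x 4 * y 4 ^ q) * hz

section

variable (hF : Fintype.card F = q ^ 2) {ε : F} (hε : ε * ε ^ q = -1)

/-- the vector map -/
def Yv (ε b c z : F) (v : Fin 5 → F) : Fin 5 → F :=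
  ![(b + c) / 2 * v 0 + (b - c) / 2 * ε⁻¹ * v 1, ε * ((b - c) / 2) * v 0 + (b + c) / 2 * v 1, z * v 2, z * v 3, z * v 4]

theorem Yv_mul (h2 : (2 : F) ≠ 0) (he : ε ≠ 0) (b c z b' c' z' : F) (v : Fin 5 → F) :
    Yv ε b c z (Yv ε b' c' z' v) = Yv ε (b * b') (c * c') (z * z') v := by
  funext i
  fin_cases i
  · show (b + c) / 2 * ((b' + c') / 2 * v 0 + (b' - c') / 2 * ε⁻¹ * v 1) +
      (b - c) / 2 * ε⁻¹ * (ε * ((b' - c') / 2) * v 0 + (b' + c') / 2 * v 1) =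
      (b * b' + c * c') / 2 * v 0 + (b * b' - c * c') / 2 * ε⁻¹ * v 1
    field_simp
    ring
  · show ε * ((b - c) / 2) * ((b' + c') / 2 * v 0 + (b' - c') / 2 * ε⁻¹ * v 1) +
      (b + c) / 2 * (ε * ((b' - c') / 2) * v 0 + (b' + c') / 2 * v 1) =
      ε * ((b * b' - c * c') / 2) * v 0 + (b * b' + c * c') / 2 * v 1
    field_simp
    ring
  · show z * (z' * v 2) = z * z' * v 2
    ring
  · show z * (z' * v 3) = z * z' * v 3
    ring
  · show z * (z' * v 4) = z * z' * v 4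
    ring

theorem Yv_one (h2 : (2 : F) ≠ 0) (v : Fin 5 → F) : Yv ε 1 1 1 v = v := by
  funext i
  fin_cases i
  · show (1 + 1 : F) / 2 * v 0 + (1 - 1) / 2 * ε⁻¹ * v 1 = v 0
    field_simp
    ring
  · show ε * ((1 - 1) / 2) * v 0 + (1 + 1 : F) / 2 * v 1 = v 1
    field_simp
    ring
  · show 1 * v 2 = v 2
    ring
  · show 1 * v 3 = v 3
    ring
  · show 1 * v 4 = v 4
    ring

include hF hε

/-- **The toral element.** -/
theorem exists_y (h2 : (2 : F) ≠ 0) {b z : F} (hb0 : b ≠ 0) (hbz : b * (b ^ q)⁻¹ * z ^ 3 = 1) (hz : z ^ (q + 1) = 1) :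
    ∃ y : SU 5 F q, ∀ v, act y v = Yv ε b (b ^ q)⁻¹ z v := by
  have he : ε ≠ 0 := by
    rintro rfl
    rw [zero_mul] at hε
    exact one_ne_zero (neg_eq_zero.1 hε.symm)
  have heq : ε ^ q = -ε⁻¹ := by
    field_simp
    linear_combination hε
  have hc0 : (b ^ q)⁻¹ ≠ 0 := inv_ne_zero (pow_ne_zero _ hb0)
  obtain ⟨c, hc⟩ : ∃ c, c = (b ^ q)⁻¹ := ⟨_, rfl⟩
  rw [← hc] at hbz hc0 ⊢
  have hbq : b ^ q = c⁻¹ := by rw [hc, inv_inv]
  have hcq : c ^ q = b⁻¹ := by rw [hc, inv_pow, pow_q_pow_q hF]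
  have hzq : z * z ^ q = 1 := by rw [← pow_succ']; exact hz
  have h2q : (2 : F) ^ q = 2 := by
    have h1 : (2 : F) = 1 + 1 := by norm_num
    rw [h1, add_pow_q hF, one_pow]
  have hs : ((b + c) / 2) ^ q = (b * c)⁻¹ * ((b + c) / 2) := by
    rw [div_pow, add_pow_q hF, hbq, hcq, h2q]
    field_simp
  have hd : ((b - c) / 2) ^ q = (b * c)⁻¹ * ((b - c) / 2) := by
    rw [div_pow, sub_pow_q hF, hbq, hcq, h2q]
    field_simp
  have ht : ((b - c) / 2 * ε⁻¹) ^ q = -((b * c)⁻¹ * (ε * ((b - c) / 2))) := by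
    rw [mul_pow, hd, inv_pow, heq]
    field_simp
  have hu : (ε * ((b - c) / 2)) ^ q = -((b * c)⁻¹ * ((b - c) / 2 * ε⁻¹)) := by
    rw [mul_pow, hd, heq]
    field_simp
  have hK : (b * c)⁻¹ * ((b + c) / 2 * ((b + c) / 2) - (b - c) / 2 * ε⁻¹ * (ε * ((b - c) / 2))) = 1 := by
    field_simp
    ring
  have hdet : (ymat ((b + c) / 2) ((b - c) / 2 * ε⁻¹) (ε * ((b - c) / 2)) z).det = 1 := by
    rw [ymat_det, ← hbz]
    congr 1
    field_simp
    ring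
  refine ⟨mkSU _ hdet (ymat_herm hF hs ht hu hzq hK), fun v => ?_⟩
  rw [act_def, mat_mkSU, ymat_mulVec]
  rfl

end

end Cfsg.Agent.H72.CVU
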