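import Cfsg.Agent.H364.UnitaryReg
import Cfsg.Agent.S0280

/-!
# `PSU_5(q)`: an element of prime order `R`, `ord_R(-q) = 5` (S3442, row X5, trivial modules)
-/

set_option autoImplicit false
set_option linter.unusedSectionVars false

namespace Cfsg.Agent.H72.CVU

open Cfsg Cfsg.Agent.H364.Unitary

variable {F : Type*} [Field F] [Fintype F] {q : ℕ}

theorem sg5 (q : ℕ) : sg q 5 = (q : ℤ) ^ 4 - q ^ 3 + q ^ 2 - q + 1 := by
  unfold sg
  simp only [Finset.sum_range_succ, Finset.sum_range_zero]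
  ring

theorem not_25 (q : ℕ) : ¬ (25 : ℤ) ∣ sg q 5 := by
  intro h
  have h1 : ((sg q 5 : ℤ) : ZMod 25) = 0 := by
    rw [ZMod.intCast_zmod_eq_zero_iff_dvd]
    exact_mod_cast h
  rw [sg5] at h1
  push_cast at h1
  have h2 : ∀ x : ZMod 25, x ^ 4 - x ^ 3 + x ^ 2 - x + 1 ≠ 0 := by decide
  exact h2 _ h1

theorem sg5_gt {q : ℕ} (hq : 2 ≤ q) : 5 < sg q 5 := by
  rw [sg5]
  have h : (2 : ℤ) ≤ q := by exact_mod_cast hq
  have e : (q : ℤ) ^ 4 - q ^ 3 + q ^ 2 - q + 1 = q ^ 3 * (q - 1) + q * (q - 1) + 1 := by ring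
  rw [e]
  have h1 : (2 : ℤ) ^ 3 ≤ (q : ℤ) ^ 3 := pow_le_pow_left₀ (by norm_num) h 3
  nlinarith

theorem exists_R {q : ℕ} (hq : 2 ≤ q) : ∃ R : ℕ, R.Prime ∧ R ≠ 5 ∧ (R : ℤ) ∣ sg q 5 := by
  by_contra hno
  push Not at hno
  have hgt := sg5_gt hq
  obtain ⟨M, hM⟩ : ∃ M : ℕ, (M : ℤ) = sg q 5 := ⟨(sg q 5).toNat, Int.toNat_of_nonneg (by omega)⟩
  have hM5 : 5 < M := by
    rw [← hM] at hgt
    exact_mod_cast hgt
  have h1 : ∀ R : ℕ, R.Prime → R ∣ M → R = 5 := by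
    intro R hR hd
    by_contra hne
    apply hno R hR hne
    rw [← hM]
    exact_mod_cast hd
  have h2 : M = 5 ^ M.primeFactorsList.length := Nat.eq_prime_pow_of_unique_prime_dvd (by omega) (fun {d} hd hdM => h1 d hd hdM)
  have h3 : ¬ 5 ^ 2 ∣ M := by
    intro h
    apply not_25 q
    rw [← hM]
    exact_mod_cast h
  have h4 : M.primeFactorsList.length ≤ 1 := by
    by_contra hlt
    apply h3
    rw [h2]
    exact pow_dvd_pow 5 (by omega)
  have h5 : M ≤ 5 ^ 1 := by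
    rw [h2]
    exact Nat.pow_le_pow_right (by norm_num) h4
  omega

theorem order_R {q R : ℕ} (hR : R.Prime) (h5 : R ≠ 5) (hd : (R : ℤ) ∣ sg q 5) : orderOf (-(q : ZMod R)) = 5 := by
  have := Fact.mk hR
  have h55 : Fact (Nat.Prime 5) := ⟨by norm_num⟩
  have h1 : ((sg q 5 : ℤ) : ZMod R) = 0 := by rwa [ZMod.intCast_zmod_eq_zero_iff_dvd]
  rw [sg5] at h1
  push_cast at h1
  apply orderOf_eq_prime
  · linear_combination (-(q : ZMod R) - 1) * h1
  · intro h
    have hq : (q : ZMod R) = -1 := by rw [← h, neg_neg]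
    rw [hq] at h1
    have h2 : ((5 : ℕ) : ZMod R) = 0 := by
      push_cast
      linear_combination h1
    rw [ZMod.natCast_eq_zero_iff] at h2
    exact h5 ((Nat.prime_dvd_prime_iff_eq hR (by norm_num)).1 h2)

theorem r_dvd_five {q r : ℕ} (hr : r.Prime) (hrq : r ∣ q + 1) (h : (r : ℤ) ∣ sg q 5) : r = 5 := by
  have := Fact.mk hr
  have h1 : ((sg q 5 : ℤ) : ZMod r) = 0 := by rwa [ZMod.intCast_zmod_eq_zero_iff_dvd]
  have h2 : ((q + 1 : ℕ) : ZMod r) = 0 := (ZMod.natCast_eq_zero_iff _ _).2 hrq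
  rw [sg5] at h1
  push_cast at h1 h2
  have hq : (q : ZMod r) = -1 := eq_neg_of_add_eq_zero_left h2
  rw [hq] at h1
  have h2 : ((5 : ℕ) : ZMod r) = 0 := by
    push_cast
    linear_combination h1
  rw [ZMod.natCast_eq_zero_iff] at h2
  exact (Nat.prime_dvd_prime_iff_eq hr (by norm_num)).1 h2

theorem q_zero (hF : Fintype.card F = q ^ 2) : (q : F) = 0 := by
  have := FiniteField.cast_card_eq_zero F
  rw [hF, Nat.cast_pow] at this
  exact (pow_eq_zero_iff two_ne_zero).1 this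

/-- **Trivial modules.** -/
theorem hT (hF : Fintype.card F = q ^ 2) {r : ℕ} (hr : r.Prime) (hrq : r ∣ q + 1) :
    ∃ x : PSU 5 F q, ¬ r ∣ orderOf x ∧ ∀ y : PSU 5 F q, orderOf y ≠ r * orderOf x := by
  have hq2 : 2 ≤ q := LieClassical.HermBasic.two_le hF
  obtain ⟨R, hR, hR5, hRd⟩ := exists_R hq2
  have hfin : Finite (SU 5 F q) := Subtype.finite
  have hfin' : Finite (PSU 5 F q) := inferInstance
  have ho := order_R hR hR5 hRd
  have hRq : ¬ R ∣ q + 1 := by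
    intro h
    exact hR5 (r_dvd_five hR h hRd)
  have hRF : (R : F) ≠ 0 := by
    intro h
    obtain ⟨p, hp⟩ := CharP.exists F
    have hpp : p.Prime := CharP.char_is_prime F p
    have h1 : p ∣ R := (CharP.cast_eq_zero_iff F p R).1 h
    have h2 : p = R := (Nat.prime_dvd_prime_iff_eq hpp hR).1 h1
    have h3 : p ∣ q := (CharP.cast_eq_zero_iff F p q).1 (q_zero hF)
    rw [h2] at h3
    have h4 : (R : ℤ) ∣ 1 := by
      have h5 : (R : ℤ) ∣ (q : ℤ) := by exact_mod_cast h3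
      have h6 : (1 : ℤ) = sg q 5 - q * ((q : ℤ) ^ 3 - q ^ 2 + q - 1) := by rw [sg5]; ring
      rw [h6]
      exact dvd_sub hRd (h5.mul_right _)
    have h5 : R ∣ 1 := by exact_mod_cast h4
    exact hR.one_lt.ne' (Nat.dvd_one.1 h5)
  have hdc : R ∣ Nat.card (PSU 5 F q) := by
    have h1 := S0280.result hF 5 (by norm_num)
    have h2 : R ∣ q ^ 5 + 1 := by
      have h3 : (R : ℤ) ∣ ((q ^ 5 + 1 : ℕ) : ℤ) := by
        have h4 : ((q ^ 5 + 1 : ℕ) : ℤ) = sg q 5 * (q + 1) := by rw [sg5]; push_cast; ring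
        rw [h4]
        exact hRd.mul_right _
      exact_mod_cast h3
    have h3 : R ∣ q ^ (5 * (5 - 1) / 2) * ∏ i ∈ Finset.range 5, (if Even i then q ^ (i + 1) + 1 else q ^ (i + 1) - 1) := by
      apply Dvd.dvd.mul_left
      rw [Finset.prod_range_succ]
      apply Dvd.dvd.mul_left
      rw [if_pos (by decide)]
      exact h2
    rw [← h1] at h3
    rcases (hR.dvd_mul).1 h3 with h4 | h4
    · exact absurd (h4.trans (Nat.gcd_dvd_right _ _)) hRq
    · exact ((hR.dvd_mul).1 h4).resolve_left hRq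
  have := Fact.mk hR
  obtain ⟨x, hx⟩ := exists_prime_orderOf_dvd_card' R hdc
  refine ⟨x, ?_, ?_⟩
  · rw [hx]
    intro h
    have h1 := (Nat.prime_dvd_prime_iff_eq hr hR).1 h
    rw [h1] at hrq
    exact hRq hrq
  · intro y hy
    rw [hx] at hy
    have h1 := psu_orderOf_dvd hF hR hRF (by norm_num) (by norm_num) ho (x := y) (by rw [hy]; exact dvd_mul_left R r)
    rw [hy] at h1
    have h2 := dvd_sg q 5
    obtain ⟨k, hk⟩ := Int.natCast_dvd.1 h2
    have hg0 : 0 < Nat.gcd 5 (q + 1) := Nat.gcd_pos_of_pos_left _ (by norm_num)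
    rw [hk, Nat.mul_div_cancel_left _ hg0] at h1
    have h3 : r ∣ k := (dvd_mul_right r R).trans h1
    have h4 : r = 5 := by
      apply r_dvd_five hr hrq
      rw [Int.natCast_dvd, hk]
      exact h3.mul_left _
    subst h4
    have h5 : Nat.gcd 5 (q + 1) = 5 := Nat.gcd_eq_left hrq
    apply not_25 q
    have : ((25 : ℕ) : ℤ) ∣ sg q 5 := by
      rw [Int.natCast_dvd, hk, h5]
      exact Nat.mul_dvd_mul_left 5 h3
    exact_mod_cast this

end Cfsg.Agent.H72.CVU
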