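import Cfsg.Agent.H72.CVU.Five

/-!
# `PSU_5(q)`, `q` odd: `2 * (p * 2 ^ a)` is not an element order, `2 ^ a = (q ^ 2 - 1)_2` (S3442, row X5)
-/

set_option autoImplicit false
set_option linter.unusedSectionVars false

namespace Cfsg.Agent.H72.CVU

open Matrix Cfsg Cfsg.Agent.H364.Unitary Cfsg.Agent.H364.Regular Cfsg.Agent.H381.CV

variable {F : Type*} [Field F] [Fintype F] {q : ℕ}

theorem exists_eigen_of_root {n : ℕ} {K : Type*} [Field K] {A : Matrix (Fin n) (Fin n) K} {c : K}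
    (hc : c ∈ A.charpoly.roots) : ∃ v : Fin n → K, v ≠ 0 ∧ A *ᵥ v = c • v := by
  have h1 := (Polynomial.mem_roots'.1 hc).2
  rw [Polynomial.IsRoot, Matrix.eval_charpoly] at h1
  obtain ⟨v, hv, h2⟩ := Matrix.exists_mulVec_eq_zero_iff.2 h1
  refine ⟨v, hv, ?_⟩
  rw [Matrix.sub_mulVec] at h2
  rw [← sub_eq_zero.1 h2]
  funext i
  simp [Matrix.scalar_apply, Matrix.mulVec_diagonal]

theorem root_of_eigen {n : ℕ} {K : Type*} [Field K] {A : Matrix (Fin n) (Fin n) K} {c : K}
    {v : Fin n → K} (hv : v ≠ 0) (h : A *ᵥ v = c • v) : c ∈ A.charpoly.roots := by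
  rw [Polynomial.mem_roots']
  refine ⟨(Matrix.charpoly_monic A).ne_zero, ?_⟩
  rw [Polynomial.IsRoot, Matrix.eval_charpoly, ← Matrix.exists_mulVec_eq_zero_iff]
  refine ⟨v, hv, ?_⟩
  rw [Matrix.sub_mulVec, h]
  funext i
  simp [Matrix.scalar_apply]

/-- the last eigenvalue -/
theorem exists_fifth {K : Type*} [Field K] [IsAlgClosed K] {A : Matrix (Fin 5) (Fin 5) K} (hdet : A.det = 1)
    {l : Fin 4 → K} (hinj : Function.Injective l)
    (h : ∀ i, ∃ v : Fin 5 → K, v ≠ 0 ∧ A *ᵥ v = l i • v) :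
    ∃ c : K, (∏ i, l i) * c = 1 ∧ ∃ v : Fin 5 → K, v ≠ 0 ∧ A *ᵥ v = c • v := by
  classical
  set R := A.charpoly.roots with hR
  have hcard : Multiset.card R = 5 := by
    rw [hR, (IsAlgClosed.splits A.charpoly).natDegree_eq_card_roots.symm, Matrix.charpoly_natDegree_eq_dim]
    rfl
  let T : Finset K := Finset.univ.image l
  have hT : T.val ≤ R := by
    rw [Multiset.le_iff_subset T.nodup]
    intro c hc
    obtain ⟨i, -, rfl⟩ := Finset.mem_image.1 (show c ∈ T from hc)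
    obtain ⟨v, hv, h'⟩ := h i
    exact root_of_eigen hv h'
  have hTc : T.card = 4 := by
    rw [Finset.card_image_of_injective _ hinj]
    rfl
  obtain ⟨U, hU⟩ := Multiset.le_iff_exists_add.1 hT
  have hUc : Multiset.card U = 1 := by
    have h1 := congrArg Multiset.card hU
    rw [Multiset.card_add, hcard] at h1
    have h2 : Multiset.card T.val = 4 := hTc
    omega
  obtain ⟨c, hc⟩ := Multiset.card_eq_one.1 hUc
  have h1 : R.prod = 1 := by rw [hR, ← Matrix.det_eq_prod_roots_charpoly, hdet]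
  rw [hU, Multiset.prod_add, hc, Multiset.prod_singleton] at h1
  have h2 : T.val.prod = ∏ i, l i := by
    have h3 : T.prod id = T.val.prod := by rw [Finset.prod]; simp
    rw [← h3, Finset.prod_image (fun a _ b _ hab => hinj hab)]
    rfl
  rw [h2] at h1
  have h3 : c ∈ R := by
    rw [hU, hc]
    simp
  exact ⟨c, h1, exists_eigen_of_root h3⟩

theorem not_comm_two (hF : Fintype.card F = q ^ 2) (hq : Odd q) (p : ℕ) [Fact p.Prime] [CharP F p] {a : ℕ}
    (ha : ¬ 2 ^ (a + 1) ∣ q ^ 2 - 1) {s w : SU 5 F q} (hs : s ^ (2 ^ (a + 1)) = 1) (hs1 : s ^ (2 ^ a) ≠ 1)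
    (hw : w ^ p = 1) (hsw : Commute s w) : w = 1 := by
  classical
  let K := AlgebraicClosure F
  have hcK : CharP K p := charP_of_injective_algebraMap (algebraMap F K).injective p
  have h2q : 2 ∣ q + 1 := by
    obtain ⟨k, hk⟩ := hq
    exact ⟨k + 1, by omega⟩
  have h2F : (2 : F) ≠ 0 := by
    have := r_ne_zero hF h2q
    exact_mod_cast this
  obtain ⟨x, hx, hx1⟩ := exists_Ev (K := K) (g := s) (k := 2) (s := 2 ^ a)
    (by exact_mod_cast h2F) (by rw [← pow_mul, ← pow_succ]; exact hs) hs1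
  have hx0 := ne_zero_Ev hF hx
  have hx2 : x ^ (2 ^ (a + 1)) = 1 := pow_Ev hs hx
  have hN : ∀ N, N ∣ q ^ 2 - 1 → x ^ N ≠ 1 := by
    intro N hN h
    apply hx1
    have h3 : x ^ (Nat.gcd (2 ^ (a + 1)) N) = 1 :=
      orderOf_dvd_iff_pow_eq_one.1 (Nat.dvd_gcd (orderOf_dvd_of_pow_eq_one hx2) (orderOf_dvd_of_pow_eq_one h))
    obtain ⟨i, hi, he⟩ := (Nat.dvd_prime_pow Nat.prime_two).1 (Nat.gcd_dvd_left (2 ^ (a + 1)) N)
    have h4 : 2 ^ i ∣ q ^ 2 - 1 := by
      rw [← he]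
      exact (Nat.gcd_dvd_right _ _).trans hN
    have h5 : i ≤ a := by
      by_contra h6
      exact ha ((pow_dvd_pow 2 (by omega)).trans h4)
    rw [he] at h3
    obtain ⟨m, hm⟩ := pow_dvd_pow 2 h5
    rw [hm, pow_mul, h3, one_pow]
  have hfac : q ^ 2 - 1 = (q + 1) * (q - 1) := by
    have := Nat.sq_sub_sq q 1
    rwa [one_pow] at this
  have hodd : ∀ j, Odd j → (tau q)^[j] x ≠ x := by
    intro j hj h
    rw [tau_iter_eq hx0] at h
    have h3 := pow_eq_one_of_zpow (M := 2 ^ (a + 1)) hx2 h (gcd_dvd Nat.prime_two h2q (by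
      rw [← even_iff_two_dvd, Nat.not_even_iff_odd]; exact hj))
    exact hN (q + 1) (by rw [hfac]; exact dvd_mul_right _ _) h3
  have htwo : (tau q)^[2] x ≠ x := by
    intro h
    rw [tau_iter_eq hx0] at h
    have h1 : 1 ≤ q ^ 2 := Nat.one_le_pow _ _ (LieClassical.HermBasic.q_pos hF)
    have h3 : (-(q : ℤ)) ^ 2 - 1 = ((q ^ 2 - 1 : ℕ) : ℤ) := by push_cast [h1]; ring
    rw [h3, zpow_natCast] at h
    exact hN _ dvd_rfl h
  have h4 : (tau q)^[4] x = x := by
    obtain ⟨j, hj1, hj2, hj3⟩ := exists_period (tau_injective (K := K) hF) (S := Ev _ s)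
      (fun x hx => next_Ev hF hx) hx
    have hj5 : j ≤ 5 := hj2.trans (card_Ev s)
    have : j = 1 ∨ j = 2 ∨ j = 3 ∨ j = 4 ∨ j = 5 := by omega
    rcases this with rfl | rfl | rfl | rfl | rfl
    · exact absurd hj3 (hodd 1 (by decide))
    · exact absurd hj3 htwo
    · exact absurd hj3 (hodd 3 (by decide))
    · exact hj3
    · exact absurd hj3 (hodd 5 (by decide))
  obtain ⟨v, hv, hxv⟩ := mem_Ev.1 hx
  choose u hu hu2 using exists_iter K hF s hv hxv
  have key : ∀ i j : ℕ, i < j → j < 4 → x ^ ((-(q : ℤ)) ^ i) ≠ x ^ ((-(q : ℤ)) ^ j) := by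
    intro i j hij hj e
    rw [← tau_iter, ← tau_iter] at e
    have e2 : (tau q)^[j - i] x = x := by
      apply (tau_injective (K := K) hF).iterate i
      rw [← Function.iterate_add_apply, show i + (j - i) = j by omega]
      exact e.symm
    have : j - i = 1 ∨ j - i = 2 ∨ j - i = 3 := by omega
    rcases this with h | h | h
    · rw [h] at e2; exact hodd 1 (by decide) e2
    · rw [h] at e2; exact htwo e2
    · rw [h] at e2; exact hodd 3 (by decide) e2
  have hinj4 : Function.Injective (fun i : Fin 4 => x ^ ((-(q : ℤ)) ^ (i : ℕ))) := by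
    intro i j hij
    apply Fin.ext
    by_contra hne
    rcases Nat.lt_or_gt_of_ne hne with h1 | h1
    · exact key i j h1 j.2 hij
    · exact key j i h1 i.2 hij.symm
  obtain ⟨c, hc, v', hv', hcv'⟩ := exists_fifth (A := mK K s) (mK_det K s) hinj4 (fun i => ⟨u i, hu i, hu2 i⟩)
  have hcq : c ^ (q + 1) = 1 := by
    have h5 : (∏ i : Fin 4, x ^ ((-(q : ℤ)) ^ (i : ℕ))) ^ (q + 1) = 1 := by
      rw [Fin.prod_univ_four, ← zpow_add₀ hx0, ← zpow_add₀ hx0, ← zpow_add₀ hx0, ← zpow_natCast, ← _root_.zpow_mul]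
      rw [tau_iter_eq hx0] at h4
      have e : ((-(q : ℤ)) ^ ((0 : Fin 4) : ℕ) + (-(q : ℤ)) ^ ((1 : Fin 4) : ℕ) + (-(q : ℤ)) ^ ((2 : Fin 4) : ℕ) +
          (-(q : ℤ)) ^ ((3 : Fin 4) : ℕ)) * ((q + 1 : ℕ) : ℤ) = ((-(q : ℤ)) ^ 4 - 1) * (-1) := by
        simp only [Fin.val_zero, Fin.val_one, Fin.val_two, show ((3 : Fin 4) : ℕ) = 3 from rfl]
        push_cast
        ring
      rw [e, _root_.zpow_mul, h4, _root_.one_zpow]
    have h6 := congrArg (fun z => z ^ (q + 1)) hc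
    simp only [mul_pow, h5, one_pow, one_mul] at h6
    exact h6
  have hcne : ∀ i : ℕ, c ≠ x ^ ((-(q : ℤ)) ^ i) := by
    intro i hi
    have h5 : (tau q)^[1] c = c := by
      show (c ^ q)⁻¹ = c
      rw [pow_succ] at hcq
      exact (eq_inv_of_mul_eq_one_right hcq).symm
    rw [hi, ← tau_iter, ← Function.iterate_add_apply, Nat.add_comm, Function.iterate_add_apply] at h5
    exact hodd 1 (by decide) ((tau_injective (K := K) hF).iterate i h5)
  let l : Fin 5 → K := fun i => if (i : ℕ) = 4 then c else x ^ ((-(q : ℤ)) ^ (i : ℕ))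
  let z : Fin 5 → Fin 5 → K := fun i => if (i : ℕ) = 4 then v' else u i
  have hE : Eig (mK K s) l z := by
    refine ⟨?_, fun i => ?_, fun i => ?_⟩
    · intro i j hij
      apply Fin.ext
      by_cases hi : (i : ℕ) = 4 <;> by_cases hj : (j : ℕ) = 4
      · rw [hi, hj]
      · have h1 : c = x ^ ((-(q : ℤ)) ^ (j : ℕ)) := by
          have e1 : l i = c := if_pos hi
          have e2 : l j = x ^ ((-(q : ℤ)) ^ (j : ℕ)) := if_neg hj
          rw [← e1, hij, e2]
        exact absurd h1 (hcne j)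
      · have h1 : c = x ^ ((-(q : ℤ)) ^ (i : ℕ)) := by
          have e1 : l j = c := if_pos hj
          have e2 : l i = x ^ ((-(q : ℤ)) ^ (i : ℕ)) := if_neg hi
          rw [← e1, ← hij, e2]
        exact absurd h1 (hcne i)
      · have e1 : l i = x ^ ((-(q : ℤ)) ^ (i : ℕ)) := if_neg hi
        have e2 : l j = x ^ ((-(q : ℤ)) ^ (j : ℕ)) := if_neg hj
        rw [e1, e2] at hij
        by_contra hne
        rcases Nat.lt_or_gt_of_ne hne with h1 | h1
        · exact key i j h1 (by have := j.2; omega) hij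
        · exact key j i h1 (by have := i.2; omega) hij.symm
    · by_cases hi : (i : ℕ) = 4
      · have e : z i = v' := if_pos hi
        rw [e]; exact hv'
      · have e : z i = u i := if_neg hi
        rw [e]; exact hu _
    · by_cases hi : (i : ℕ) = 4
      · have e : z i = v' := if_pos hi
        have e1 : l i = c := if_pos hi
        rw [e, e1]; exact hcv'
      · have e : z i = u i := if_neg hi
        have e1 : l i = x ^ ((-(q : ℤ)) ^ (i : ℕ)) := if_neg hi
        rw [e, e1]; exact hu2 _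
  have h5 := hE.eq_one_of_pow_prime p (mK_comm K hsw) (k := 1) (by rw [pow_one, ← mK_pow, hw, mK_one])
  apply mK_injective K
  rw [h5, mK_one]

/-- **The bound for `r = 2`.** -/
theorem psu_two_bound (hF : Fintype.card F = q ^ 2) (hq : Odd q) (p : ℕ) [Fact p.Prime] [CharP F p] {a : ℕ}
    (ha : ¬ 2 ^ (a + 1) ∣ q ^ 2 - 1) (y : PSU 5 F q) : orderOf y ≠ 2 * (p * 2 ^ a) := by
  intro hy
  have hpp : p.Prime := Fact.out
  have hp2 : p ≠ 2 := by
    rintro rfl
    have h1 : 2 ∣ q := (CharP.cast_eq_zero_iff F 2 q).1 (q_zero hF)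
    obtain ⟨k, hk⟩ := hq
    omega
  have hfin : Finite (SU 5 F q) := Subtype.finite
  obtain ⟨g, rfl⟩ := QuotientGroup.mk_surjective y
  have hgc : g ^ (2 * (p * 2 ^ a)) ∈ Subgroup.center (SU 5 F q) := by
    rw [← QuotientGroup.eq_one_iff, QuotientGroup.mk_pow, ← hy, pow_orderOf_eq_one]
  -- a multiplier `d` prime to `2 p` killing the centre
  obtain ⟨d, hd1, hd2⟩ : ∃ d : ℕ, (2 * (p * 2 ^ a)).Coprime d ∧ (g ^ (2 * (p * 2 ^ a))) ^ d = 1 := by
    obtain ⟨c, hcn, hcq, hc⟩ := (Cfsg.Agent.LieClassical.SUBasic.mem_center_SU_iff hF (by norm_num) _).1 hgc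
    have hpow : ∀ k, c ^ k = 1 → (g ^ (2 * (p * 2 ^ a))) ^ k = 1 := by
      intro k hk
      rw [hc]
      apply mat_injective
      rw [mat_pow, mat_one]
      change (Matrix.diagonal fun _ => c) ^ k = 1
      rw [Matrix.diagonal_pow]
      have : (fun _ : Fin 5 => c) ^ k = 1 := by funext i; exact hk
      rw [this]
      exact Matrix.diagonal_one
    by_cases h5 : p = 5
    · refine ⟨1, Nat.coprime_one_right _, hpow 1 ?_⟩
      rw [pow_one]
      have h6 : (c - 1) ^ p = 0 := by rw [sub_pow_char, one_pow, h5, hcn, sub_self]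
      exact sub_eq_zero.1 (pow_eq_zero_iff hpp.ne_zero |>.1 h6)
    · refine ⟨5, ?_, hpow 5 hcn⟩
      have h25 : Nat.Coprime 2 5 := by norm_num
      exact Nat.Coprime.mul_left h25 (Nat.Coprime.mul_left ((Nat.coprime_primes hpp (by norm_num)).2 h5)
        (Nat.Coprime.pow_left _ h25))
  obtain ⟨h, hh⟩ : ∃ h, h = g ^ d := ⟨_, rfl⟩
  have hh1 : h ^ (2 * (p * 2 ^ a)) = 1 := by rw [hh, ← pow_mul, mul_comm, pow_mul, hd2]
  have hh2 : ∀ N, h ^ N = 1 → 2 * (p * 2 ^ a) ∣ N := by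
    intro N hN
    rw [hh, ← pow_mul] at hN
    have h3 : (QuotientGroup.mk g : PSU 5 F q) ^ (d * N) = 1 := by
      rw [← QuotientGroup.mk_pow, hN]; rfl
    have h4 := orderOf_dvd_of_pow_eq_one h3
    rw [hy] at h4
    exact hd1.dvd_of_dvd_mul_left h4
  have hpos : 0 < 2 ^ a := pow_pos (by norm_num) a
  have hw1 : h ^ (2 ^ (a + 1)) = 1 := by
    refine not_comm_two hF hq p ha (s := h ^ p) (w := h ^ (2 ^ (a + 1))) ?_ ?_ ?_ ?_
    · rw [← pow_mul, pow_succ]
      convert hh1 using 2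
      ring
    · intro hc
      rw [← pow_mul] at hc
      have h3 := hh2 _ hc
      have h4 := Nat.le_of_dvd (Nat.mul_pos hpp.pos hpos) h3
      have h5 := Nat.mul_pos hpp.pos hpos
      omega
    · rw [← pow_mul, pow_succ]
      convert hh1 using 2
      ring
    · exact (Commute.refl h).pow_pow _ _
  have h3 := hh2 _ hw1
  have h4 : p ∣ 2 ^ (a + 1) := ((dvd_mul_right p (2 ^ a)).mul_left 2).trans h3
  have h5 := (Nat.prime_dvd_prime_iff_eq hpp Nat.prime_two).1 (hpp.dvd_of_dvd_pow h4)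
  exact hp2 h5

end Cfsg.Agent.H72.CVU
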